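import Cfsg.Agent.Lib.Chevalley.G2Orders.Table

/-!
An element of order twelve of G₂(2), from bit matrices.
-/

set_option autoImplicit false
set_option maxRecDepth 20000
set_option maxHeartbeats 4000000

namespace CfsgLib.Chevalley.G2Orders

open Tbl
open CfsgLib.KnownB.FieldAut (mapGL mapGL_inj map_group)

local notation "T2" => Data.G2.tbl
local notation "hT2" => Data.G2.valid

/-- The position of a coordinate. -/
def bitPos : (T2).I → ℕ := Sum.elim (fun i => i.val) fun s => 2 + s.val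

/-- A matrix from its rows as bit strings. -/
def bitMat (L : List ℕ) : Matrix (T2).I (T2).I (ZMod 2) :=
  fun i j => if (L.getD (bitPos i) 0).testBit (bitPos j) then 1 else 0

/-- The rows of the root element of the root `0`. -/
def b0 : List ℕ := [8193, 2, 8198, 264, 1040, 2080, 64, 4224, 256, 512, 1024, 2048, 4096, 8192]
/-- The rows of the root element of the root `2`. -/
def b2 : List ℕ := [1, 2050, 4644, 9288, 2065, 4128, 8256, 128, 256, 4608, 9216, 2048, 4096, 8192]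
/-- The rows of the root element of the root `9`. -/
def b9 : List ℕ := [1, 18, 4, 8, 16, 36, 72, 128, 256, 516, 1032, 2065, 4644, 9288]
/-- The rows of a product. -/
def b02 : List ℕ := [8193, 2050, 14886, 9544, 11281, 6176, 8256, 4224, 256, 4608, 9216, 2048, 4096, 8192]
/-- The rows of the element. -/
def g1 : List ℕ := [9289, 2051, 15435, 8448, 10304, 6673, 9216, 4772, 256, 4128, 8256, 2065, 4644, 9288]
/-- The rows of its square. -/
def g2 : List ℕ := [9537, 9307, 14199, 9544, 2137, 1564, 1032, 14074, 256, 2101, 72, 1048, 9310, 264]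
/-- The rows of its cube. -/
def g3 : List ℕ := [1345, 1282, 348, 8, 280, 1387, 320, 11258, 256, 8770, 1280, 10496, 7424, 8192]
/-- The rows of its fourth power. -/
def g4 : List ℕ := [8457, 10563, 4107, 8448, 2112, 4635, 9472, 4239, 256, 6251, 8512, 11609, 15221, 9288]
/-- The rows of its sixth power. -/
def g6 : List ℕ := [1, 258, 12, 8, 16, 96, 64, 385, 256, 1536, 1024, 2048, 12288, 8192]
/-- The rows of the identity. -/
def gI : List ℕ := [1, 2, 4, 8, 16, 32, 64, 128, 256, 512, 1024, 2048, 4096, 8192]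

theorem X_bits : ∀ p : (T2).I × (T2).I, (X (T := T2) (ZMod 2) 0 1 p.1 p.2 = bitMat b0 p.1 p.2) ∧
    (X (T := T2) (ZMod 2) 2 1 p.1 p.2 = bitMat b2 p.1 p.2) ∧ (X (T := T2) (ZMod 2) 9 1 p.1 p.2 = bitMat b9 p.1 p.2) := by
  decide +kernel

theorem mul_bits : ∀ p : (T2).I × (T2).I,
    (bitMat b0 * bitMat b2) p.1 p.2 = bitMat b02 p.1 p.2 ∧ (bitMat b02 * bitMat b9) p.1 p.2 = bitMat g1 p.1 p.2 ∧
    (bitMat g1 * bitMat g1) p.1 p.2 = bitMat g2 p.1 p.2 ∧ (bitMat g2 * bitMat g1) p.1 p.2 = bitMat g3 p.1 p.2 ∧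
    (bitMat g2 * bitMat g2) p.1 p.2 = bitMat g4 p.1 p.2 ∧ (bitMat g3 * bitMat g3) p.1 p.2 = bitMat g6 p.1 p.2 ∧
    (bitMat g6 * bitMat g6) p.1 p.2 = bitMat gI p.1 p.2 ∧ (1 : Matrix (T2).I (T2).I (ZMod 2)) p.1 p.2 = bitMat gI p.1 p.2 := by
  decide +kernel

theorem bits_ne : (∃ p : (T2).I × (T2).I, bitMat g4 p.1 p.2 ≠ bitMat gI p.1 p.2) ∧ (∃ p : (T2).I × (T2).I, bitMat g6 p.1 p.2 ≠ bitMat gI p.1 p.2) := by
  decide +kernel

/-- The group over the field with two elements has an element of order twelve. -/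
theorem exists_twelve_prime : ∃ g ∈ (T2).datum.group (ZMod 2), orderOf g = 12 := by
  have h0 : (0 : ℕ) < (T2).n := by decide +kernel
  have h2 : (2 : ℕ) < (T2).n := by decide +kernel
  have h9 : (9 : ℕ) < (T2).n := by decide +kernel
  set g := (T2).xU (ZMod 2) 0 1 * (T2).xU (ZMod 2) 2 1 * (T2).xU (ZMod 2) 9 1 with hg
  refine ⟨g, mul_mem (mul_mem (xU_mem_group hT2 h0 _) (xU_mem_group hT2 h2 _)) (xU_mem_group hT2 h9 _), ?_⟩
  have m := fun (L : List ℕ) (A B : List ℕ) (h : ∀ i j : (T2).I, (bitMat A * bitMat B) i j = bitMat L i j) =>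
    (Matrix.ext h : bitMat A * bitMat B = bitMat L)
  have e1 : (g : Matrix (T2).I (T2).I (ZMod 2)) = bitMat g1 := by
    rw [hg, Units.val_mul, Units.val_mul, xU_val hT2 h0, xU_val hT2 h2, xU_val hT2 h9,
      (Matrix.ext fun i j => (X_bits (i, j)).1 : X (T := T2) (ZMod 2) 0 1 = bitMat b0),
      (Matrix.ext fun i j => (X_bits (i, j)).2.1 : X (T := T2) (ZMod 2) 2 1 = bitMat b2),
      (Matrix.ext fun i j => (X_bits (i, j)).2.2 : X (T := T2) (ZMod 2) 9 1 = bitMat b9), m b02 _ _ fun i j => (mul_bits (i, j)).1,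
      m g1 _ _ fun i j => (mul_bits (i, j)).2.1]
  have e2 : ((g * g : GL (T2).I (ZMod 2)) : Matrix (T2).I (T2).I (ZMod 2)) = bitMat g2 := by
    rw [Units.val_mul, e1, m g2 _ _ fun i j => (mul_bits (i, j)).2.2.1]
  have e3 : ((g * g * g : GL (T2).I (ZMod 2)) : Matrix (T2).I (T2).I (ZMod 2)) = bitMat g3 := by
    rw [Units.val_mul, e2, e1, m g3 _ _ fun i j => (mul_bits (i, j)).2.2.2.1]
  have e4 : ((g ^ 4 : GL (T2).I (ZMod 2)) : Matrix (T2).I (T2).I (ZMod 2)) = bitMat g4 := by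
    rw [show g ^ 4 = (g * g) * (g * g) by simp only [pow_succ, pow_zero, one_mul, mul_assoc], Units.val_mul, e2, m g4 _ _ fun i j => (mul_bits (i, j)).2.2.2.2.1]
  have e6 : ((g ^ 6 : GL (T2).I (ZMod 2)) : Matrix (T2).I (T2).I (ZMod 2)) = bitMat g6 := by
    rw [show g ^ 6 = (g * g * g) * (g * g * g) by simp only [pow_succ, pow_zero, one_mul, mul_assoc], Units.val_mul, e3,
      m g6 _ _ fun i j => (mul_bits (i, j)).2.2.2.2.2.1]
  have eI : (1 : Matrix (T2).I (T2).I (ZMod 2)) = bitMat gI := Matrix.ext fun i j => (mul_bits (i, j)).2.2.2.2.2.2.2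
  have h12 : g ^ 12 = 1 := Units.ext (by
    rw [show g ^ 12 = g ^ 6 * g ^ 6 by group, Units.val_mul, e6, Units.val_one, eI,
      m gI _ _ fun i j => (mul_bits (i, j)).2.2.2.2.2.2.1])
  have n4 : g ^ 4 ≠ 1 := fun h => by
    obtain ⟨⟨i, j⟩, hne⟩ := bits_ne.1
    exact hne (by rw [← e4, h, Units.val_one, eI])
  have n6 : g ^ 6 ≠ 1 := fun h => by
    obtain ⟨⟨i, j⟩, hne⟩ := bits_ne.2
    exact hne (by rw [← e6, h, Units.val_one, eI])
  have hd := orderOf_dvd_of_pow_eq_one h12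
  have a4 : ¬ orderOf g ∣ 4 := fun h => n4 (orderOf_dvd_iff_pow_eq_one.1 h)
  have a6 : ¬ orderOf g ∣ 6 := fun h => n6 (orderOf_dvd_iff_pow_eq_one.1 h)
  have hle := Nat.le_of_dvd (by norm_num) hd
  interval_cases hN : orderOf g <;> first | rfl | omega

/-- An element of order twelve in characteristic two. -/
theorem exists_twelve {F : Type*} [Field F] [CharP F 2] :
    ∃ g ∈ (T2).datum.group F, orderOf g = 12 := by
  obtain ⟨g, hg, ho⟩ := exists_twelve_prime
  refine ⟨mapGL T2 (ZMod.castHom dvd_rfl F) g, map_group _ hT2 ⟨g, hg, rfl⟩, ?_⟩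
  rw [orderOf_injective _ (mapGL_inj _), ho]

end CfsgLib.Chevalley.G2Orders
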