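import Cfsg.Agent.Lib.Chevalley.G2Orders.Torus
import Cfsg.Agent.Lib.Chevalley.G2Orders.Twelve
import Cfsg.Agent.Lib.Chevalley.CoxeterTorus.Instances

/-!
Elements of the maximal orders of G₂ in characteristic two.
-/

set_option autoImplicit false
set_option maxRecDepth 20000

namespace CfsgLib.Chevalley.G2Orders

open Tbl
open CfsgLib.Chevalley.CoxeterTorus
open scoped MatrixGroups

local notation "T2" => Data.G2.tbl
local notation "hT2" => Data.G2.valid
local notation "hC2" => Data.G2.chkComm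

theorem eval_six (x : ℤ) : (Polynomial.cyclotomic 6 ℤ).eval x = x ^ 2 - x + 1 := by
  have h := congrArg (Polynomial.eval x)
    (Polynomial.cyclotomic_expand_eq_cyclotomic_mul (p := 2) (n := 3) Nat.prime_two (by norm_num) ℤ)
  rw [Polynomial.expand_eval, Polynomial.eval_mul, eval_three, eval_three,
    show (3 * 2 : ℕ) = 6 from rfl] at h
  refine mul_right_cancel₀ (show x ^ 2 + x + 1 ≠ 0 by nlinarith [sq_nonneg (2 * x + 1)]) ?_
  rw [← h]
  ring

theorem pair_facts : (∃ s : Fin (T2).n, (T2).pair 11 s.val = 1) ∧ (∃ s : Fin (T2).n, (T2).pair 7 s.val = 1) ∧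
    ∀ r ∈ ([11, 0] : List ℕ), ∀ s ∈ ([7, 4] : List ℕ),
      s ≠ r ∧ s ≠ (T2).neg r ∧ (T2).commT r s = [] := by
  decide +kernel

variable {F : Type*} [Field F]

theorem hom_mem {r : ℕ} (hr : r < (T2).n) (g : SL(2, F)) :
    (sl2Data hT2 hr).hom g ∈ (T2).rootGen F (fun u => u = r ∨ u = (T2).neg r) := by
  have hx : ∀ t, (T2).xU F r t ∈ (T2).rootGen F (fun u => u = r ∨ u = (T2).neg r) := fun t =>
    xU_mem_rootGen (P := fun u => u = r ∨ u = (T2).neg r) hr (Or.inl rfl) t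
  have hy : ∀ t, (T2).xU F ((T2).neg r) t ∈ (T2).rootGen F (fun u => u = r ∨ u = (T2).neg r) := fun t =>
    xU_mem_rootGen (P := fun u => u = r ∨ u = (T2).neg r) (neg_lt' hr) (Or.inr rfl) t
  have hn : ∀ t : F, (T2).nU F r t ∈ (T2).rootGen F (fun u => u = r ∨ u = (T2).neg r) := fun t =>
    mul_mem (mul_mem (hx _) (hy _)) (hx _)
  have hh : ∀ c, (sl2Data hT2 hr).h c ∈ (T2).rootGen F (fun u => u = r ∨ u = (T2).neg r) := fun c => by
    show (T2).dU ((T2).hCh r c) ∈ _
    rw [← hU_eq hT2 hr c]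
    exact mul_mem (hn _) (hn _)
  show (sl2Data hT2 hr).map g ∈ _
  by_cases hc : g.1 1 0 = 0
  · rw [SL2.Data.map, dif_pos hc]; exact mul_mem (hh _) (hx _)
  · rw [SL2.Data.map, dif_neg hc]
    exact mul_mem (mul_mem (mul_mem (hx _) (hh _)) (hn 1)) (hx _)

variable [CharP F 2]

/-- The two orthogonal pairs commute. -/
theorem pairs_commute {a b : GL (T2).I F} (ha : a ∈ (T2).rootGen F (fun u => u = 11 ∨ u = (T2).neg 11))
    (hb : b ∈ (T2).rootGen F (fun u => u = 7 ∨ u = (T2).neg 7)) : Commute a b := by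
  have h0 : (T2).neg 11 = 0 := by decide +kernel
  have h4 : (T2).neg 7 = 4 := by decide +kernel
  have h1 : (T2).rootGen F (fun u => u = 11 ∨ u = (T2).neg 11) ≤
      Subgroup.centralizer ((T2).rootGen F (fun u => u = 7 ∨ u = (T2).neg 7) : Set (GL (T2).I F)) := by
    refine rootGen_le fun r hr hrr t => ?_
    have h2 : (T2).rootGen F (fun u => u = 7 ∨ u = (T2).neg 7) ≤ Subgroup.centralizer {(T2).xU F r t} := by
      refine rootGen_le fun s hs hss u => ?_
      rw [Subgroup.mem_centralizer_singleton_iff]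
      obtain ⟨n1, n2, c⟩ := pair_facts.2.2 r (by rw [h0] at hrr; simpa using hrr) s
        (by rw [h4] at hss; simpa using hss)
      exact comm_nil (n_eq ▸ hr) (n_eq ▸ hs) n1 n2 c t u
    exact Subgroup.mem_centralizer_iff.2 fun c hc =>
      Subgroup.mem_centralizer_singleton_iff.1 (h2 hc)
  exact (Subgroup.mem_centralizer_iff.1 (h1 ha) b hb).symm

variable [Fintype F] {q : ℕ} (hF : Fintype.card F = q)
include hF

theorem exists_orders {a : ℕ} (ha : 2 ≤ a) (hqa : q = 2 ^ a) :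
    ∀ n ∈ [8, 12, 2 * (q + 1), 2 * (q - 1), q ^ 2 - 1, q ^ 2 + q + 1, q ^ 2 - q + 1],
      ∃ g ∈ (T2).datum.group F, orderOf g = n := by
  classical
  have : Fact (Nat.Prime 2) := ⟨Nat.prime_two⟩
  have h6 : 6 < (T2).n := by decide +kernel
  have h7 : 7 < (T2).n := by decide +kernel
  have h11 : 11 < (T2).n := by decide +kernel
  have hG : ∀ P : ℕ → Prop, (T2).rootGen F P ≤ (T2).datum.group F := fun P =>
    rootGen_le fun _ hr _ t => xU_mem_group hT2 hr t
  have hq4 : 4 ≤ q := by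
    rw [hqa]
    exact le_trans (by norm_num) (Nat.pow_le_pow_right (by norm_num) ha)
  have hqe : Even q := hqa ▸ Nat.even_pow.2 ⟨even_two, by omega⟩
  have hom_order : ∀ {r : ℕ} (hr : r < (T2).n), (T2).half ≤ r → (∃ s : Fin (T2).n, (T2).pair r s.val = 1) →
      ∀ e : SL(2, F), ∃ g ∈ (T2).rootGen F (fun u => u = r ∨ u = (T2).neg r), orderOf g = orderOf e := by
    rintro r hr hp ⟨s, hs⟩ e
    exact ⟨_, hom_mem hr e, orderOf_injective _ (F4Graph.sl2_injective hT2 hr hp s.2 hs) e⟩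
  obtain ⟨em, hem⟩ := Classical.exists_sl2_minus (F := F)
  obtain ⟨ep, hep⟩ := Classical.exists_sl2_plus (F := F) 2
  rw [hF] at hem hep
  have hh11 : (T2).half ≤ 11 := by decide +kernel
  have hh7 : (T2).half ≤ 7 := by decide +kernel
  obtain ⟨gm7, hgm7, hm7⟩ := hom_order h7 hh7 pair_facts.2.1 em
  obtain ⟨gp7, hgp7, hp7⟩ := hom_order h7 hh7 pair_facts.2.1 ep
  obtain ⟨gm11, hgm11, hm11⟩ := hom_order h11 hh11 pair_facts.1 em
  set t := (T2).xU F 11 1 with ht
  have htR : t ∈ (T2).rootGen F (fun u => u = 11 ∨ u = (T2).neg 11) :=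
    xU_mem_rootGen (P := fun u => u = 11 ∨ u = (T2).neg 11) h11 (Or.inl rfl) _
  have hto : orderOf t = 2 :=
    orderOf_eq_prime (by rw [pow_two]; exact x_sq h11 _)
      fun h => one_ne_zero (xU_inj hT2 h11 (h.trans (xU_zero hT2 h11).symm))
  have hodd : ∀ k, k = q + 1 ∨ k = q - 1 → Nat.Coprime 2 k := fun k hk => Nat.coprime_two_left.2 (by
    obtain ⟨c, hc⟩ := hqe
    rcases hk with rfl | rfl
    · exact ⟨c, by omega⟩
    · exact ⟨c - 1, by omega⟩)
  have htorus : ∀ {e P : ℕ}, e = 3 ∨ e = 6 → (Polynomial.cyclotomic e ℤ).eval (q : ℤ) = (P : ℤ) → e < P →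
      (∀ p : ℕ, p.Prime → p ^ 2 ∣ P → ¬ p ∣ e) → ∃ g ∈ (T2).datum.group F, orderOf g = P := by
    intro e P he hP hlt hsq
    obtain ⟨H, hc, hH, -⟩ := instanceTorus hT2 hC2 Data.G2.chkSmith (by decide) rfl hF (by omega)
      (by rcases he with rfl | rfl <;> decide) hP hlt hsq G2_card_WP
      (fun ℓ hℓ h => by
        rw [show (12 : ℕ) = 2 ^ 2 * 3 from rfl] at h
        rcases hℓ.dvd_mul.1 h with h | h
        · have := Nat.le_of_dvd (by norm_num) (hℓ.dvd_of_dvd_pow h); omega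
        · have := Nat.le_of_dvd (by norm_num) h; omega)
      (by
        rw [Data.G2.datum_eq, Cfsg.Agent.S1059.result hF]
        exact dvd_mul_of_dvd_right (Nat.pow_sub_one_dvd_pow_sub_one q (by
          rcases he with rfl | rfl <;> norm_num)) _)
    obtain ⟨g, hg⟩ := hc.exists_ofOrder_eq_natCard
    exact ⟨(g : ↥((T2).datum.group F)), SetLike.coe_mem _, by
      rw [Subgroup.orderOf_coe, Subgroup.orderOf_coe, hg, hH]⟩
  simp only [List.forall_mem_cons, List.not_mem_nil, false_imp_iff, implies_true, and_true]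
  refine ⟨?_, exists_twelve, ?_, ?_, ?_, ?_, ?_⟩
  · have hu : (T2).xU F 6 1 * (T2).xU F 7 1 ∈ U F 6 :=
      mul_mem (x_mem h6 le_rfl _) (x_mem h7 (by norm_num) _)
    refine ⟨_, hG _ hu, ?_⟩
    exact orderOf_eq_prime_pow (p := 2) (n := 2) regular_pow_four (pow_eight hu)
  · refine ⟨t * gp7, mul_mem (hG _ htR) (hG _ hgp7), ?_⟩
    rw [(pairs_commute htR hgp7).orderOf_mul_eq_mul_orderOf_of_coprime
      (by rw [hto, hp7, hep]; exact hodd _ (Or.inl rfl)), hto, hp7, hep]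
  · refine ⟨t * gm7, mul_mem (hG _ htR) (hG _ hgm7), ?_⟩
    rw [(pairs_commute htR hgm7).orderOf_mul_eq_mul_orderOf_of_coprime
      (by rw [hto, hm7, hem]; exact hodd _ (Or.inr rfl)), hto, hm7, hem]
  · refine ⟨gm11 * gp7, mul_mem (hG _ hgm11) (hG _ hgp7), ?_⟩
    have hcop : Nat.Coprime (q - 1) (q + 1) := by
      rw [show q + 1 = 2 + (q - 1) by omega, Nat.coprime_add_self_right]
      exact (hodd _ (Or.inr rfl)).symm
    rw [(pairs_commute hgm11 hgp7).orderOf_mul_eq_mul_orderOf_of_coprime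
      (by rw [hm11, hp7, hem, hep]; exact hcop), hm11, hp7, hem, hep, mul_comm, ← Nat.sq_sub_sq, one_pow]
  · refine htorus (Or.inl rfl) (by rw [eval_three]; push_cast; ring) (by nlinarith) fun p hp h2 hpe => ?_
    obtain rfl := (Nat.prime_dvd_prime_iff_eq hp Nat.prime_three).1 hpe
    have h9 : ((q ^ 2 + q + 1 : ℕ) : ZMod 9) = 0 := (ZMod.natCast_eq_zero_iff _ _).2 h2
    exact (show ∀ x : ZMod 9, x ^ 2 + x + 1 ≠ 0 by decide) (q : ZMod 9) (by exact_mod_cast h9)
  · have hqq : q ≤ q ^ 2 := Nat.le_self_pow (by norm_num) q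
    have h12 : q * 4 ≤ q ^ 2 := by rw [pow_two]; exact Nat.mul_le_mul_left q hq4
    refine htorus (Or.inr rfl) (by rw [eval_six]; push_cast [Nat.cast_sub hqq]; ring) (by omega)
      fun p hp h2 hpe => ?_
    have h6 : p = 2 ∨ p = 3 := by
      rcases hp.dvd_mul.1 (show p ∣ 2 * 3 from hpe) with h | h
      · exact Or.inl ((Nat.prime_dvd_prime_iff_eq hp Nat.prime_two).1 h)
      · exact Or.inr ((Nat.prime_dvd_prime_iff_eq hp Nat.prime_three).1 h)
    rcases h6 with rfl | rfl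
    · have hev : Even (q ^ 2 - q) := by
        rw [Nat.even_sub hqq]
        simp [Nat.even_pow, hqe]
      have := (dvd_pow_self 2 (show (2 : ℕ) ≠ 0 by norm_num)).trans h2
      obtain ⟨c, hc⟩ := hev
      omega
    · have h9 : ((q ^ 2 - q + 1 : ℕ) : ZMod 9) = 0 := (ZMod.natCast_eq_zero_iff _ _).2 h2
      refine (show ∀ x : ZMod 9, x ^ 2 - x + 1 ≠ 0 by decide) (q : ZMod 9) ?_
      rw [Nat.cast_add, Nat.cast_sub hqq] at h9
      exact_mod_cast h9

end CfsgLib.Chevalley.G2Orders
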