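import Cfsg.Agent.Lib.Chevalley.Twist.ToriGen
import Cfsg.Agent.Lib.Classical.SL2Tori

/-!
Conjugation into an abelian subgroup with full prime parts, elements of two-power order in a product
with a normal subgroup of odd index, and the two-elements of `SL₂` in characteristic two.
-/

set_option autoImplicit false

namespace CfsgLib.Chevalley.G2Orders

open scoped MatrixGroups

variable {G : Type*} [Group G]

/-- An element whose prime divisors see the full part of an abelian subgroup is conjugate into it. -/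
theorem conj_abelian [Finite G] (A : Subgroup G) (hA : ∀ a ∈ A, ∀ b ∈ A, a * b = b * a) :
    ∀ (H : Subgroup G), A ≤ H → ∀ s ∈ H, (∀ p : ℕ, p.Prime → p ∣ orderOf s →
      (Nat.card ↥A).factorization p = (Nat.card ↥H).factorization p) →
      ∃ g ∈ H, g * s * g⁻¹ ∈ A := by
  intro H hAH s
  generalize hn : orderOf s = n
  induction n using Nat.strong_induction_on generalizing H s with
  | _ n IH =>
  intro hs hp
  rcases eq_or_ne n 1 with rfl | hn1
  · rw [orderOf_eq_one_iff] at hn
    exact ⟨1, one_mem _, by simp [hn]⟩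
  obtain ⟨p, hpp, hpn⟩ := Nat.exists_prime_and_dvd hn1
  have : Fact p.Prime := ⟨hpp⟩
  have hn0 : n ≠ 0 := hn ▸ (orderOf_pos s).ne'
  set k := n.factorization p
  set n' := n / p ^ k
  have hprod : p ^ k * n' = n := Nat.ordProj_mul_ordCompl_eq_self n p
  have hk : 0 < k := hpp.factorization_pos_of_dvd hn0 hpn
  set y := s ^ n'
  have hy : orderOf y = p ^ k := by
    show orderOf (s ^ n') = _
    rw [orderOf_pow' s (Nat.ordCompl_pos p hn0).ne', hn, Nat.gcd_eq_right (Nat.ordCompl_dvd n p)]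
    exact Nat.div_eq_of_eq_mul_left (Nat.ordCompl_pos p hn0) hprod.symm
  obtain ⟨g, hg⟩ := Twist.ToriGen.conj_into (G := ↥H) (A.subgroupOf H)
    (by rw [Nat.card_congr (Subgroup.subgroupOfEquivOfLe hAH).toEquiv]; exact hp p hpp hpn)
    (y := ⟨y, pow_mem hs n'⟩) (k := k) (by rw [← Subgroup.orderOf_coe]; exact hy)
  rw [Subgroup.mem_subgroupOf] at hg
  set z := (g : G) * y * (g : G)⁻¹ with hz
  have hzA : z ∈ A := hg
  set H' := H ⊓ Subgroup.centralizer {z}
  have hAH' : A ≤ H' := fun a ha =>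
    Subgroup.mem_inf.2 ⟨hAH ha, Subgroup.mem_centralizer_singleton_iff.2 (hA a ha z hzA)⟩
  set r := ((g : G) * s * (g : G)⁻¹) ^ (p ^ k)
  have hrH : r ∈ H' := by
    refine Subgroup.mem_inf.2 ⟨pow_mem (mul_mem (mul_mem g.2 hs) (inv_mem g.2)) _,
      Subgroup.mem_centralizer_singleton_iff.2 ?_⟩
    rw [hz, ← conj_pow]
    exact ((Commute.refl _).pow_pow _ _).eq
  have hro : orderOf r = n' := by
    show orderOf (MulAut.conj (g : G) s ^ (p ^ k)) = n'
    rw [← map_pow, MulEquiv.orderOf_eq, orderOf_pow' s (pow_pos hpp.pos k).ne', hn,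
      Nat.gcd_eq_right (Nat.ordProj_dvd n p)]
  have hlt : n' < n :=
    Nat.div_lt_self (Nat.pos_of_ne_zero hn0) (one_lt_pow₀ hpp.one_lt hk.ne')
  obtain ⟨h, hh, hhr⟩ := IH n' hlt H' hAH' r hro hrH fun l hl hln => by
    have hln' : l ∣ n := hln.trans ⟨p ^ k, by rw [mul_comm]; exact hprod.symm⟩
    refine le_antisymm ?_ ?_
    · exact (Nat.factorization_le_iff_dvd Nat.card_pos.ne' Nat.card_pos.ne').2
        (Subgroup.card_dvd_of_le hAH') l
    · rw [hp l hl hln']
      exact (Nat.factorization_le_iff_dvd Nat.card_pos.ne' Nat.card_pos.ne').2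
        (Subgroup.card_dvd_of_le inf_le_left) l
  obtain ⟨hhH, hhz⟩ := Subgroup.mem_inf.1 hh
  refine ⟨h * g, mul_mem hhH g.2, ?_⟩
  obtain ⟨i, j, hij⟩ := Int.isCoprime_iff_gcd_eq_one.2
    (show Int.gcd ((p ^ k : ℕ) : ℤ) (n' : ℤ) = 1 from
      (Nat.Coprime.pow_left k (Nat.coprime_ordCompl hpp hn0)))
  set t := h * g * s * (h * g)⁻¹
  have ht1 : t ^ (p ^ k) ∈ A := by
    convert hhr using 1
    simp only [t, r, conj_pow]; group
  have ht2 : t ^ n' ∈ A := by
    convert hzA using 1
    calc t ^ n' = h * z * h⁻¹ := by simp only [t, conj_pow, hz, y]; group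
      _ = z := by rw [Subgroup.mem_centralizer_singleton_iff.1 hhz, mul_inv_cancel_right]
  have e : (t ^ (p ^ k)) ^ i * (t ^ n') ^ j = t := by
    rw [← zpow_natCast t, ← zpow_natCast t, ← zpow_mul, ← zpow_mul, ← zpow_add, mul_comm _ i,
      mul_comm _ j, hij, zpow_one]
  exact e ▸ mul_mem (zpow_mem ht1 i) (zpow_mem ht2 j)

/-- An element of two-power order of a product with a normal subgroup, over a group of odd order. -/
theorem pow_index_mem [Finite G] (N K : Subgroup G) (hK : K ≤ Subgroup.normalizer (N : Set G))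
    (hodd : ¬ 2 ∣ Nat.card ↥K) {x : G} (hx : x ∈ N ⊔ K) {k : ℕ} (hk : x ^ 2 ^ k = 1) : x ∈ N := by
  set M := N ⊔ K
  have hM : M ≤ Subgroup.normalizer (N : Set G) := sup_le Subgroup.le_normalizer hK
  have : (N.subgroupOf M).Normal :=
    (Subgroup.normal_subgroupOf_iff_le_normalizer (le_sup_left : N ≤ M)).2 hM
  have h1 : (N.subgroupOf M).index ∣ Nat.card ↥(K.subgroupOf M) := by
    rw [← Subgroup.relIndex_top_right,
      show (⊤ : Subgroup ↥M) = K.subgroupOf M ⊔ N.subgroupOf M by
        rw [← Subgroup.subgroupOf_sup le_sup_right le_sup_left, sup_comm K N, Subgroup.subgroupOf_self],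
      Subgroup.relIndex_sup_right]
    exact Subgroup.relIndex_dvd_card _ _
  rw [Nat.card_congr (Subgroup.subgroupOfEquivOfLe (le_sup_right : K ≤ M)).toEquiv] at h1
  have h2 : (⟨x, hx⟩ : ↥M) ^ (N.subgroupOf M).index ∈ N.subgroupOf M := Subgroup.pow_index_mem _ _
  rw [Subgroup.mem_subgroupOf, Subgroup.coe_pow] at h2
  have hcop : Nat.Coprime (2 ^ k) (N.subgroupOf M).index :=
    Nat.Coprime.pow_left k ((Nat.prime_two.coprime_iff_not_dvd).2 fun h => hodd (h.trans h1))
  have e : x = (x ^ (N.subgroupOf M).index) ^ Nat.gcdB (2 ^ k) (N.subgroupOf M).index := by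
    have h := Nat.gcd_eq_gcd_ab (2 ^ k) (N.subgroupOf M).index
    rw [hcop.gcd_eq_one] at h
    conv_lhs => rw [← zpow_one x, ← Nat.cast_one (R := ℤ), h, zpow_add, zpow_mul, zpow_natCast, hk,
      one_zpow, one_mul, zpow_mul, zpow_natCast]
  rw [e]
  exact zpow_mem h2 _

/-- The order of a product with a normalised subgroup, with the common part. -/
theorem card_sup_inf_dvd [Finite G] (N K : Subgroup G) (h : K ≤ Subgroup.normalizer (N : Set G)) :
    Nat.card ↥(N ⊔ K) * Nat.card ↥(N ⊓ K) ∣ Nat.card ↥N * Nat.card ↥K := by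
  set M := N ⊔ K
  have hM : M ≤ Subgroup.normalizer (N : Set G) := sup_le Subgroup.le_normalizer h
  have : (N.subgroupOf M).Normal :=
    (Subgroup.normal_subgroupOf_iff_le_normalizer (le_sup_left : N ≤ M)).2 hM
  have h1 : (N.subgroupOf M).index = (N.subgroupOf M).relIndex (K.subgroupOf M) := by
    rw [← Subgroup.relIndex_top_right,
      show (⊤ : Subgroup ↥M) = K.subgroupOf M ⊔ N.subgroupOf M by
        rw [← Subgroup.subgroupOf_sup le_sup_right le_sup_left, sup_comm K N, Subgroup.subgroupOf_self],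
      Subgroup.relIndex_sup_right]
  rw [Subgroup.relIndex_subgroupOf (le_sup_right : K ≤ M)] at h1
  have hKe : Nat.card ↥(N ⊓ K) * N.relIndex K = Nat.card ↥K := by
    rw [← Nat.card_congr (Subgroup.subgroupOfEquivOfLe (inf_le_right : N ⊓ K ≤ K)).toEquiv,
      Subgroup.inf_subgroupOf_right]
    exact (N.subgroupOf K).card_mul_index
  rw [← (N.subgroupOf M).card_mul_index,
    Nat.card_congr (Subgroup.subgroupOfEquivOfLe (le_sup_left : N ≤ M)).toEquiv, h1, mul_assoc,
    mul_comm (N.relIndex K), hKe]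

/-- A two-element of `SL₂` in characteristic two squares to one. -/
theorem sl2_sq_of_two {F : Type*} [Field F] [CharP F 2] (g : SL(2, F)) {k : ℕ} (hk : g ^ 2 ^ k = 1) :
    g ^ 2 = 1 := by
  have : Fact (Nat.Prime 2) := ⟨Nat.prime_two⟩
  refine Classical.sl2_pow_char 2 g ?_
  set A : Matrix (Fin 2) (Fin 2) F := (g : Matrix (Fin 2) (Fin 2) F) with hA
  have h : (A - 1) ^ 2 ^ k = 0 := by
    rw [sub_pow_char_pow_of_commute 2 k (Commute.one_right _), one_pow, hA,
      ← Matrix.SpecialLinearGroup.coe_pow, hk, Matrix.SpecialLinearGroup.coe_one, sub_self]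
  have h2 := congrArg Matrix.det h
  rw [Matrix.det_pow, Matrix.det_zero] at h2
  exact eq_zero_of_pow_eq_zero h2

end CfsgLib.Chevalley.G2Orders
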