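import Cfsg.Agent.Lib.Chevalley.CoxeterTorus.Main
import Cfsg.Agent.Lib.Chevalley.Data.G2Comm
import Cfsg.Agent.Lib.Chevalley.Data.SmithCerts
import Cfsg.Agent.Lib.Chevalley.SteinbergTorus

/-!
The Weyl group of type G₂ as twelve permutations of the root indices, with the facts about them and
about pairs of roots that govern the tori and centralisers of G₂(q).
-/

set_option autoImplicit false
set_option maxRecDepth 20000

namespace CfsgLib.Chevalley.G2Orders

open Tbl
open CfsgLib.Chevalley.CoxeterTorus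

local notation "T2" => Data.G2.tbl
local notation "hT2" => Data.G2.valid

/-- The permutations. -/
def perms : List (List ℕ) :=
  [[0, 1, 2, 3, 4, 5, 6, 7, 8, 9, 10, 11],
    [0, 5, 3, 2, 7, 1, 10, 4, 9, 8, 6, 11],
    [1, 0, 2, 4, 3, 6, 5, 8, 7, 9, 11, 10],
    [1, 6, 4, 2, 8, 0, 11, 3, 9, 7, 5, 10],
    [5, 0, 3, 7, 2, 10, 1, 9, 4, 8, 11, 6],
    [5, 10, 7, 3, 9, 0, 11, 2, 8, 4, 1, 6],
    [6, 1, 4, 8, 2, 11, 0, 9, 3, 7, 10, 5],
    [6, 11, 8, 4, 9, 1, 10, 2, 7, 3, 0, 5],
    [10, 5, 7, 9, 3, 11, 0, 8, 2, 4, 6, 1],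
    [10, 11, 9, 7, 8, 5, 6, 3, 4, 2, 0, 1],
    [11, 6, 8, 9, 4, 10, 1, 7, 2, 3, 5, 0],
    [11, 10, 9, 8, 7, 6, 5, 4, 3, 2, 1, 0]]

/-- The images of the roots, as a list. -/
def lst (v : Equiv.Perm (Fin (T2).n)) : List ℕ := List.ofFn fun s => (v s).val

theorem lst_getD (v : Equiv.Perm (Fin (T2).n)) (s : Fin (T2).n) : (lst v).getD s.val 0 = (v s).val := by
  simp [lst, List.getD_eq_getElem?_getD]

theorem perms_closed : ∀ p ∈ perms, ∀ i : Fin (T2).rank, p.map ((T2).refl i.val) ∈ perms := by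
  decide +kernel

theorem perms_one : lst (1 : Equiv.Perm (Fin (T2).n)) ∈ perms := by decide +kernel

theorem lst_mem {v : Equiv.Perm (Fin (T2).n)} (hv : v ∈ (T2).WP hT2) : lst v ∈ perms := by
  have hstep : ∀ (i : Fin (T2).rank) (v : Equiv.Perm (Fin (T2).n)), lst v ∈ perms →
      lst ((T2).refP hT2 i * v) ∈ perms := by
    intro i v hv
    have e : lst ((T2).refP hT2 i * v) = (lst v).map ((T2).refl i.val) := by
      simp only [lst, List.map_ofFn]
      congr 1
    rw [e]
    exact perms_closed _ hv i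
  induction hv using Subgroup.closure_induction_left with
  | one => exact perms_one
  | mul_left x hx y _ ih => obtain ⟨i, rfl⟩ := hx; exact hstep i y ih
  | inv_mul_cancel x hx y _ ih => obtain ⟨i, rfl⟩ := hx; rw [refP_inv]; exact hstep i y ih

/-- The coefficient of the reflection in a root. -/
def reflCo (b s : ℕ) (j : ℕ) : ℤ := (T2).co s j - (T2).pair b s * (T2).co b j

/-- The image in a list of images. -/
abbrev im (p : List ℕ) (s : ℕ) : ℕ := p.getD s 0

theorem co_inj : ∀ s t : Fin (T2).n, (T2).co s.val 0 = (T2).co t.val 0 →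
    (T2).co s.val 1 = (T2).co t.val 1 → s = t := by
  decide +kernel

theorem reflCo_neg : ∀ b s : Fin (T2).n, ∀ j : Fin (T2).rank,
    reflCo ((T2).neg b.val) s.val j.val = reflCo b.val s.val j.val := by
  decide +kernel

theorem cls_list : ∀ p ∈ perms, (∀ s : Fin (T2).n, im p s.val = s.val) ∨
    (∃ b : Fin (T2).n, im p b.val = (T2).neg b.val ∧
      ∀ s : Fin (T2).n, ∀ j : Fin (T2).rank, (T2).co (im p s.val) j.val = reflCo b.val s.val j.val) ∨
    (∀ s : Fin (T2).n, im p (im p (im p s.val)) = (T2).neg s.val) ∨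
    (∀ s : Fin (T2).n, ∀ j : Fin (T2).rank,
      (T2).co s.val j.val + (T2).co (im p s.val) j.val + (T2).co (im p (im p s.val)) j.val = 0) := by
  decide +kernel

theorem twist_list : ∀ p ∈ perms, (∀ s : Fin (T2).n, im p s.val = s.val) ∨
    (∀ s : Fin (T2).n, im p s.val = (T2).neg s.val) ∨
    ∃ e ∈ ([(0, -1), (1, 1), (-1, 1)] : List (ℤ × ℤ)), ∀ s : Fin (T2).n, ∀ j : Fin (T2).rank,
      (T2).co (im p (im p s.val)) j.val = e.1 * (T2).co (im p s.val) j.val - e.2 * (T2).co s.val j.val := by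
  decide +kernel

/-- The determinant of two roots on the fundamental ones. -/
def det2 (b g : ℕ) : ℤ := (T2).co b 0 * (T2).co g 1 - (T2).co b 1 * (T2).co g 0

theorem det2_facts : ∀ b g : Fin (T2).n, g.val ≠ b.val → g.val ≠ (T2).neg b.val →
    det2 b.val g.val ≠ 0 ∧ det2 b.val g.val ∣ 6 := by
  decide +kernel

theorem basis_list : ∀ p ∈ perms, ∀ b : Fin (T2).n,
    (im p b.val = b.val ∨ im p b.val = (T2).neg b.val) → ∃ g : Fin (T2).n,
      (det2 b.val g.val).natAbs = 1 ∧ ∃ e ∈ ([1, -1] : List ℤ), ∃ c ∈ ([-3, -2, -1, 0, 1, 2, 3] : List ℤ),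
        ∀ j : Fin (T2).rank, (T2).co (im p g.val) j.val = e * (T2).co g.val j.val + c * (T2).co b.val j.val := by
  decide +kernel

section Perm

variable {v : Equiv.Perm (Fin (T2).n)} (hv : v ∈ (T2).WP hT2)
include hv

/-- Every element is trivial, a reflection, or moves every root round in three or six steps. -/
theorem cls : v = 1 ∨
    (∃ b : Fin (T2).n, v b = (T2).negF b ∧
      ∀ s : Fin (T2).n, ∀ j : Fin (T2).rank, (T2).co (v s).val j.val = reflCo b.val s.val j.val) ∨
    (∀ s : Fin (T2).n, v (v (v s)) = (T2).negF s) ∨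
    (∀ s : Fin (T2).n, ∀ j : Fin (T2).rank,
      (T2).co s.val j.val + (T2).co (v s).val j.val + (T2).co (v (v s)).val j.val = 0) := by
  rcases cls_list _ (lst_mem hv) with h | ⟨b, hb, h⟩ | h | h <;> simp only [im, lst_getD] at *
  · exact Or.inl (Equiv.ext fun s => Fin.ext (h s))
  · exact Or.inr (Or.inl ⟨b, Fin.ext hb, h⟩)
  · exact Or.inr (Or.inr (Or.inl fun s => Fin.ext (h s)))
  · exact Or.inr (Or.inr (Or.inr h))

/-- The quadratic relation of an element on the roots. -/
theorem twist_cls : v = 1 ∨ (∀ s : Fin (T2).n, v s = (T2).negF s) ∨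
    ∃ e ∈ ([(0, -1), (1, 1), (-1, 1)] : List (ℤ × ℤ)), ∀ s : Fin (T2).n, ∀ j : Fin (T2).rank,
      (T2).co (v (v s)).val j.val = e.1 * (T2).co (v s).val j.val - e.2 * (T2).co s.val j.val := by
  rcases twist_list _ (lst_mem hv) with h | h | ⟨e, he, h⟩ <;> simp only [im, lst_getD] at *
  · exact Or.inl (Equiv.ext fun s => Fin.ext (h s))
  · exact Or.inr (Or.inl fun s => Fin.ext (h s))
  · exact Or.inr (Or.inr ⟨e, he, h⟩)

/-- A basis through a root carried to itself or its negative. -/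
theorem basis_of_fixed (b : Fin (T2).n) (hb : v b = b ∨ v b = (T2).negF b) : ∃ g : Fin (T2).n,
    (det2 b.val g.val).natAbs = 1 ∧ ∃ e ∈ ([1, -1] : List ℤ), ∃ c : ℤ,
      ∀ j : Fin (T2).rank, (T2).co (v g).val j.val = e * (T2).co g.val j.val + c * (T2).co b.val j.val := by
  obtain ⟨g, hg, e, he, c, -, h⟩ := basis_list _ (lst_mem hv) b (by
    simp only [im, lst_getD]
    exact hb.imp (congrArg Fin.val) (congrArg Fin.val))
  simp only [im, lst_getD] at h
  exact ⟨g, hg, e, he, c, h⟩

end Perm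

/-- Two permutations reflecting in the same root agree. -/
theorem refl_unique {v w : Equiv.Perm (Fin (T2).n)} {b c : Fin (T2).n} (hbc : c = b ∨ c = (T2).negF b)
    (h1 : ∀ s : Fin (T2).n, ∀ j : Fin (T2).rank, (T2).co (v s).val j.val = reflCo b.val s.val j.val)
    (h2 : ∀ s : Fin (T2).n, ∀ j : Fin (T2).rank, (T2).co (w s).val j.val = reflCo c.val s.val j.val) :
    v = w := by
  refine Equiv.ext fun s => co_inj _ _ ?_ ?_
  all_goals
    first
      | (rw [h1 s ⟨0, by decide⟩, h2 s ⟨0, by decide⟩]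
         rcases hbc with rfl | rfl
         · rfl
         · exact (reflCo_neg b s ⟨0, by decide⟩).symm)
      | (rw [h1 s ⟨1, by decide⟩, h2 s ⟨1, by decide⟩]
         rcases hbc with rfl | rfl
         · rfl
         · exact (reflCo_neg b s ⟨1, by decide⟩).symm)

section Char

variable {K : Type*} [Field K]

theorem tCh_of_co {f : Fin (T2).rank → Kˣ} {u s r : Fin (T2).n} {x y : ℤ}
    (h : ∀ j : Fin (T2).rank, (T2).co u.val j.val = x * (T2).co s.val j.val + y * (T2).co r.val j.val) :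
    tCh T2 f u.val = tCh T2 f s.val ^ x * tCh T2 f r.val ^ y := by
  rw [tCh_linear hT2 f u, tCh_linear hT2 f s, tCh_linear hT2 f r, ← Finset.prod_zpow, ← Finset.prod_zpow,
    ← Finset.prod_mul_distrib]
  exact Finset.prod_congr rfl fun j _ => by
    rw [← _root_.zpow_mul, ← _root_.zpow_mul, ← _root_.zpow_add, h j]
    congr 1
    ring

theorem tCh_neg (f : Fin (T2).rank → Kˣ) (s : Fin (T2).n) :
    tCh T2 f ((T2).negF s).val = (tCh T2 f s.val)⁻¹ := by
  rw [tCh_of_co (f := f) (u := (T2).negF s) (s := s) (r := s) (x := -1) (y := 0) fun j => by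
    rw [show ((T2).negF s).val = (T2).neg s.val from rfl, co_neg hT2 s.2 j.2]; ring, zpow_zero, mul_one,
    zpow_neg_one]

theorem torus_inj [Fintype K] : Function.Injective (torusHom T2 K) :=
  torusHom_injective_of_smith hT2 Data.G2.chkSmith (by decide)

/-- Two independent roots determine the torus element up to their determinant. -/
theorem pow_det [Fintype K] {f : Fin (T2).rank → Kˣ} {b g : Fin (T2).n} {k : ℕ}
    (hb : tCh T2 f b.val ^ k = 1) (hg : tCh T2 f g.val ^ k = 1) :
    f ^ (k * (det2 b.val g.val).natAbs) = 1 := by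
  refine torus_inj (torus_congr hT2 fun s => ?_)
  rw [tCh_pow, show tCh T2 (1 : Fin (T2).rank → Kˣ) s.val = 1 by simp [tCh], pow_mul]
  set x := tCh T2 f s.val ^ k
  have key : x ^ det2 b.val g.val = 1 := by
    have h0 : tCh T2 f s.val ^ det2 b.val g.val =
        tCh T2 f b.val ^ ((T2).co s.val 0 * (T2).co g.val 1 - (T2).co s.val 1 * (T2).co g.val 0) *
          tCh T2 f g.val ^ ((T2).co b.val 0 * (T2).co s.val 1 - (T2).co b.val 1 * (T2).co s.val 0) := by
      have hs := tCh_linear hT2 f s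
      have hb' := tCh_linear hT2 f b
      have hg' := tCh_linear hT2 f g
      rw [hs, hb', hg', ← Finset.prod_zpow, ← Finset.prod_zpow, ← Finset.prod_zpow,
        ← Finset.prod_mul_distrib]
      refine Finset.prod_congr rfl fun j _ => ?_
      rw [← _root_.zpow_mul, ← _root_.zpow_mul, ← _root_.zpow_mul, ← _root_.zpow_add]
      congr 1
      obtain ⟨j, hj⟩ := j
      have hj' : j < 2 := hj
      interval_cases j <;> simp only [det2] <;> ring
    have h1 := congrArg (· ^ (k : ℤ)) h0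
    simp only [mul_zpow, ← _root_.zpow_mul] at h1
    rw [mul_comm (det2 b.val g.val), mul_comm _ (k : ℤ), mul_comm _ (k : ℤ), _root_.zpow_mul,
      _root_.zpow_mul, _root_.zpow_mul, zpow_natCast, zpow_natCast, zpow_natCast, hb, hg,
      _root_.one_zpow, _root_.one_zpow, one_mul] at h1
    exact h1
  rw [← zpow_natCast]
  rcases Int.natAbs_eq (det2 b.val g.val) with h | h
  · rw [← h]; exact key
  · rw [show ((det2 b.val g.val).natAbs : ℤ) = -det2 b.val g.val by omega, zpow_neg, key, inv_one]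

end Char

end CfsgLib.Chevalley.G2Orders
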