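import Cfsg.Agent.Lib.Chevalley.G2Orders.Table
import Cfsg.Agent.Lib.KnownB.Steinberg.Alt

/-!
The maximal unipotent subgroup of G₂ in characteristic two has exponent eight; an element of order eight
is regular, so it commutes with no element of order three.
-/

set_option autoImplicit false
set_option maxRecDepth 20000

namespace CfsgLib.Chevalley.G2Orders

open Tbl
open scoped commutatorElement
open CfsgLib.Chevalley.CoxeterTorus

local notation "T2" => Data.G2.tbl
local notation "hT2" => Data.G2.valid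
local notation "hC2" => Data.G2.chkComm

variable {F : Type*} [Field F]

/-- The terms of the unipotent series. -/
abbrev U (F : Type*) [Field F] (k : ℕ) : Subgroup (GL (T2).I F) := (T2).rootGen F (fun r => k ≤ r)

theorem n_eq : (T2).n = 12 := by decide +kernel

theorem half_eq : (T2).half = 6 := by decide +kernel

theorem U_le {j k : ℕ} (h : j ≤ k) : U F k ≤ U F j := rootGen_mono fun _ _ hr => le_trans h hr

theorem x_mem {r k : ℕ} (hr : r < (T2).n) (h : k ≤ r) (t : F) : (T2).xU F r t ∈ U F k :=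
  xU_mem_rootGen (P := fun r => k ≤ r) hr h t

theorem U_normal {k : ℕ} (hk : 6 ≤ k) {g y : GL (T2).I F} (hg : g ∈ U F 6) (hy : y ∈ U F k) :
    g * y * g⁻¹ ∈ U F k :=
  (Subgroup.mem_normalizer_iff.mp
    (pos_le_normalizer_ge hT2 hC2 (by rw [half_eq]; exact hk) (by rw [half_eq]; exact hg)) y).mp hy

variable [CharP F 2]

theorem x_sq {r : ℕ} (hr : r < (T2).n) (t : F) : (T2).xU F r t * (T2).xU F r t = 1 := by
  rw [xU_add hT2 hr, CharTwo.add_self_eq_zero, xU_zero hT2 hr]

theorem comm_nil {r s : ℕ} (hr : r < 12) (hs : s < 12) (hrs : s ≠ r) (hneg : s ≠ (T2).neg r)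
    (h : (T2).commT r s = []) (t u : F) :
    (T2).xU F s u * (T2).xU F r t = (T2).xU F r t * (T2).xU F s u := by
  rw [comm_xU hT2 hC2 (n_eq.symm ▸ hr) (n_eq.symm ▸ hs) hrs hneg, h]
  simp

theorem comm76 (t u : F) : (T2).xU F 7 u * (T2).xU F 6 t = (T2).xU F 6 t * (T2).xU F 7 u *
    ((T2).xU F 8 (t * u) * (T2).xU F 9 (t * u ^ 2) * (T2).xU F 10 (t * u ^ 3)) := by
  rw [comm_xU hT2 hC2 (by decide +kernel) (by decide +kernel) (by decide) (by decide +kernel),
    show (T2).commT 6 7 = [(8, 1, 1, 1), (9, 1, 1, 2), (10, -1, 1, 3), (11, -2, 2, 3)] by decide +kernel]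
  have h2 : (2 : F) = 0 := CharTwo.two_eq_zero
  have e11 : (T2).xU F 11 0 = 1 := xU_zero hT2 (by decide +kernel)
  simp [CharTwo.neg_eq, h2, e11, mul_assoc]

theorem comm98 (t u : F) : (T2).xU F 9 u * (T2).xU F 8 t =
    (T2).xU F 8 t * (T2).xU F 9 u * (T2).xU F 11 (t * u) := by
  rw [comm_xU hT2 hC2 (by decide +kernel) (by decide +kernel) (by decide) (by decide +kernel),
    show (T2).commT 8 9 = [(11, 3, 1, 1)] by decide +kernel]
  have h3 : (3 : F) = 1 := by linear_combination (CharTwo.two_eq_zero : (2 : F) = 0)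
  simp [CharTwo.neg_eq, h3]

theorem mem_U_succ {k : ℕ} (hk : 6 ≤ k) (hkn : k < 12) {g : GL (T2).I F} :
    g ∈ U F k ↔ ∃ t, ∃ g' ∈ U F (k + 1), g = (T2).xU F k t * g' :=
  mem_ge_iff hT2 hC2 (by rw [half_eq]; exact hk) (by rw [n_eq]; exact hkn)

theorem U12 : U F 12 = ⊥ := by
  exact (congrArg (U F) n_eq).symm.trans (ge_n_eq_bot (T := T2) (F := F) hT2)

/-- The elements above the middle form an elementary abelian group. -/
theorem sq_nine {y : GL (T2).I F} (hy : y ∈ U F 9) : y * y = 1 := by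
  obtain ⟨a, y1, h1, rfl⟩ := (mem_U_succ (by norm_num) (by norm_num)).1 hy
  obtain ⟨b, y2, h2, rfl⟩ := (mem_U_succ (by norm_num) (by norm_num)).1 h1
  obtain ⟨c, y3, h3, rfl⟩ := (mem_U_succ (by norm_num) (by norm_num)).1 h2
  rw [U12, Subgroup.mem_bot] at h3
  subst h3
  set A := (T2).xU F 9 a
  set B := (T2).xU F 10 b
  set C := (T2).xU F 11 c
  have hA : A * A = 1 := x_sq (by decide +kernel) _
  have hB : B * B = 1 := x_sq (by decide +kernel) _
  have hC : C * C = 1 := x_sq (by decide +kernel) _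
  have hAB : B * A = A * B := comm_nil (by norm_num) (by norm_num) (by decide) (by decide +kernel) (by decide +kernel) _ _
  have hAC : C * A = A * C := comm_nil (by norm_num) (by norm_num) (by decide) (by decide +kernel) (by decide +kernel) _ _
  have hBC : C * B = B * C := comm_nil (by norm_num) (by norm_num) (by decide) (by decide +kernel) (by decide +kernel) _ _
  have hBCA : (B * C) * A = A * (B * C) := by
    rw [mul_assoc, hAC, ← mul_assoc, hAB, mul_assoc]
  rw [mul_one]
  calc A * (B * C) * (A * (B * C)) = A * ((B * C) * A) * (B * C) := by group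
    _ = (A * A) * (B * (C * B) * C) := by rw [hBCA]; group
    _ = 1 := by rw [hA, hBC, one_mul, ← mul_assoc, hB, one_mul, hC]

/-- The coefficients on the two fundamental roots. -/
def Form (a b : F) (u : GL (T2).I F) : Prop :=
  ∃ r ∈ U F 8, u = (T2).xU F 6 a * (T2).xU F 7 b * r

omit [CharP F 2] in
theorem Form.mem {a b : F} {u : GL (T2).I F} (h : Form a b u) : u ∈ U F 6 := by
  obtain ⟨r, hr, rfl⟩ := h
  exact mul_mem (mul_mem (x_mem (by decide +kernel) le_rfl _) (x_mem (by decide +kernel) (by norm_num) _))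
    (U_le (by norm_num) hr)

omit [CharP F 2] in
theorem Form.unique {a b a' b' : F} {u : GL (T2).I F} (h : Form a b u) (h' : Form a' b' u) :
    a = a' ∧ b = b' := by
  obtain ⟨r, hr, rfl⟩ := h
  obtain ⟨r', hr', e⟩ := h'
  rw [mul_assoc, mul_assoc] at e
  obtain ⟨e1, e2⟩ := xU_mul_inj hT2 hC2 (k := 6) (by decide +kernel) (by decide +kernel)
    (mul_mem (x_mem (by decide +kernel) le_rfl _) (U_le (by norm_num) hr))
    (mul_mem (x_mem (by decide +kernel) le_rfl _) (U_le (by norm_num) hr')) e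
  exact ⟨e1, (xU_mul_inj hT2 hC2 (k := 7) (by decide +kernel) (by decide +kernel) hr hr' e2).1⟩

theorem Form.mul {a b a' b' : F} {u u' : GL (T2).I F} (h : Form a b u) (h' : Form a' b' u') :
    Form (a + a') (b + b') (u * u') := by
  obtain ⟨r, hr, rfl⟩ := h
  obtain ⟨r', hr', rfl⟩ := h'
  have hx6 : ∀ t : F, (T2).xU F 6 t ∈ U F 6 := fun t => x_mem (by decide +kernel) le_rfl t
  have hx7 : ∀ t : F, (T2).xU F 7 t ∈ U F 6 := fun t => x_mem (by decide +kernel) (by norm_num) t
  set y := (T2).xU F 6 a' * (T2).xU F 7 b'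
  set W := (T2).xU F 8 (a' * b) * (T2).xU F 9 (a' * b ^ 2) * (T2).xU F 10 (a' * b ^ 3)
  have hW : W ∈ U F 8 := mul_mem (mul_mem (x_mem (by decide +kernel) le_rfl _)
    (x_mem (by decide +kernel) (by norm_num) _)) (x_mem (by decide +kernel) (by norm_num) _)
  refine ⟨((T2).xU F 7 b')⁻¹ * W * (T2).xU F 7 b' * (y⁻¹ * r * y) * r',
    mul_mem (mul_mem ?_ ?_) hr', ?_⟩
  · simpa using U_normal (by norm_num) (inv_mem (hx7 b')) hW
  · have h := U_normal (by norm_num) (inv_mem (show y ∈ U F 6 from mul_mem (hx6 a') (hx7 b'))) hr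
    rwa [inv_inv] at h
  · rw [← xU_add hT2 (show 6 < (T2).n by decide +kernel), ← xU_add hT2 (show 7 < (T2).n by decide +kernel)]
    calc _ = (T2).xU F 6 a * ((T2).xU F 7 b * (T2).xU F 6 a') * (T2).xU F 7 b' * (y⁻¹ * r * y) * r' := by
          simp only [y]; group
      _ = (T2).xU F 6 a * ((T2).xU F 6 a' * (T2).xU F 7 b * W) * (T2).xU F 7 b' * (y⁻¹ * r * y) * r' := by
          rw [comm76]
      _ = _ := by group

theorem Form.one : Form (0 : F) 0 (1 : GL (T2).I F) :=
  ⟨1, one_mem _, by rw [xU_zero hT2 (by decide +kernel), xU_zero hT2 (by decide +kernel)]; simp⟩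

omit [CharP F 2] in
theorem exists_form {u : GL (T2).I F} (hu : u ∈ U F 6) : ∃ a b, Form a b u := by
  obtain ⟨a, g, hg, rfl⟩ := (mem_ge_iff hT2 hC2 (k := 6) (by decide +kernel) (by decide +kernel)).1 hu
  obtain ⟨b, r, hr, rfl⟩ := (mem_ge_iff hT2 hC2 (k := 7) (by decide +kernel) (by decide +kernel)).1 hg
  exact ⟨a, b, r, hr, (mul_assoc _ _ _).symm⟩

theorem Form.conj {a b : F} {u g : GL (T2).I F} (hg : g ∈ U F 6) (h : Form a b u) :
    Form a b (g * u * g⁻¹) := by
  obtain ⟨c, d, hgf⟩ := exists_form hg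
  obtain ⟨c', d', hgi⟩ := exists_form (inv_mem hg)
  have e := (hgf.mul hgi)
  rw [mul_inv_cancel] at e
  obtain ⟨e1, e2⟩ := Form.unique e Form.one
  have := (hgf.mul h).mul hgi
  rwa [show c + a + c' = a by linear_combination e1, show d + b + d' = b by linear_combination e2] at this

theorem sq_mem_eight {u : GL (T2).I F} (hu : u ∈ U F 6) : u * u ∈ U F 8 := by
  obtain ⟨a, b, h⟩ := exists_form hu
  obtain ⟨r, hr, e⟩ := h.mul h
  rw [CharTwo.add_self_eq_zero, CharTwo.add_self_eq_zero, xU_zero hT2 (by decide +kernel),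
    xU_zero hT2 (by decide +kernel), one_mul, one_mul] at e
  rw [e]
  exact hr

theorem sq_mem_nine {x : GL (T2).I F} (hx : x ∈ U F 8) : x * x ∈ U F 9 := by
  obtain ⟨a, r, hr, rfl⟩ := (mem_U_succ (by norm_num) (by norm_num)).1 hx
  set A := (T2).xU F 8 a
  have hA : A * A = 1 := x_sq (by decide +kernel) _
  have hA6 : A ∈ U F 6 := x_mem (by decide +kernel) (by norm_num) _
  rw [show A * r * (A * r) = A * r * A⁻¹ * (A * A) * r by group, hA, mul_one]
  exact mul_mem (U_normal (by norm_num) hA6 hr) hr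

theorem pow_eight {u : GL (T2).I F} (hu : u ∈ U F 6) : u ^ 8 = 1 := by
  rw [show u ^ 8 = (u * u) * (u * u) * ((u * u) * (u * u)) by simp only [pow_succ, pow_zero, one_mul, mul_assoc]]
  exact sq_nine (sq_mem_nine (sq_mem_eight hu))

/-- Without one of the fundamental coefficients the fourth power is trivial. -/
theorem pow_four {a b : F} {u : GL (T2).I F} (h : Form a b u) (h0 : a = 0 ∨ b = 0) : u ^ 4 = 1 := by
  rw [show u ^ 4 = (u * u) * (u * u) by simp only [pow_succ, pow_zero, one_mul, mul_assoc]]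
  refine sq_nine ?_
  obtain ⟨r, hr, rfl⟩ := h
  set g := (T2).xU F 6 a * (T2).xU F 7 b with hgdef
  have hg : g ∈ U F 6 :=
    mul_mem (x_mem (by decide +kernel) le_rfl _) (x_mem (by decide +kernel) (by norm_num) _)
  have hgg : g * g = 1 := by
    rcases h0 with rfl | rfl
    · rw [hgdef, xU_zero hT2 (by decide +kernel), one_mul]; exact x_sq (by decide +kernel) _
    · rw [hgdef, xU_zero hT2 (show 7 < (T2).n by decide +kernel), mul_one]; exact x_sq (by decide +kernel) _
  obtain ⟨c, r', hr', rfl⟩ := (mem_U_succ (k := 8) (by norm_num) (by norm_num)).1 hr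
  set C := (T2).xU F 8 c
  have hC : C * C = 1 := x_sq (by decide +kernel) _
  have hcom : ⁅C, g⁆ ∈ U F 9 :=
    commutator_mem hT2 hC2 (k := 8) (by decide +kernel) (x_mem (by decide +kernel) le_rfl _)
      (by rw [half_eq]; exact hg)
  have hC6 : C ∈ U F 6 := x_mem (by decide +kernel) (by norm_num) _
  have e : g * (C * r') * (g * (C * r')) =
      ⁅C, g⁆⁻¹ * (C * (g * r' * g⁻¹) * C⁻¹) * (C * (g * g) * C) * r' := by
    rw [commutatorElement_def]; group
  rw [e, hgg, mul_one, hC, mul_one]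
  exact mul_mem (mul_mem (inv_mem hcom) (U_normal (by norm_num) hC6 (U_normal (by norm_num) hg hr'))) hr'

/-- An element of order eight. -/
theorem regular_pow_four : ((T2).xU F 6 1 * (T2).xU F 7 1) ^ 4 ≠ 1 := by
  set X6 := (T2).xU F 6 1
  set X7 := (T2).xU F 7 1
  set X8 := (T2).xU F 8 1
  set X9 := (T2).xU F 9 1
  set X10 := (T2).xU F 10 1
  set X11 := (T2).xU F 11 1
  have h6 : X6 * X6 = 1 := x_sq (by decide +kernel) _
  have h7 : X7 * X7 = 1 := x_sq (by decide +kernel) _
  have h8 : X8 * X8 = 1 := x_sq (by decide +kernel) _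
  have h9 : X9 * X9 = 1 := x_sq (by decide +kernel) _
  have h10 : X10 * X10 = 1 := x_sq (by decide +kernel) _
  have c76 : X7 * X6 = X6 * X7 * (X8 * X9 * X10) := by simpa using comm76 (1 : F) 1
  have c98 : X9 * X8 = X8 * X9 * X11 := by simpa using comm98 (1 : F) 1
  have c810 : X10 * X8 = X8 * X10 := comm_nil (by norm_num) (by norm_num) (by decide) (by decide +kernel) (by decide +kernel) _ _
  have c910 : X10 * X9 = X9 * X10 := comm_nil (by norm_num) (by norm_num) (by decide) (by decide +kernel) (by decide +kernel) _ _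
  have c911 : X11 * X9 = X9 * X11 := comm_nil (by norm_num) (by norm_num) (by decide) (by decide +kernel) (by decide +kernel) _ _
  have c711 : X11 * X7 = X7 * X11 := comm_nil (by norm_num) (by norm_num) (by decide) (by decide +kernel) (by decide +kernel) _ _
  have hu2 : (X6 * X7) * (X6 * X7) = X7 * (X8 * X9 * X10) * X7 := by
    calc (X6 * X7) * (X6 * X7) = X6 * (X7 * X6) * X7 := by group
      _ = (X6 * X6) * X7 * (X8 * X9 * X10) * X7 := by rw [c76]; group
      _ = _ := by rw [h6, one_mul]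
  have hW : (X8 * X9 * X10) * (X8 * X9 * X10) = X11 := by
    calc (X8 * X9 * X10) * (X8 * X9 * X10) = X8 * X9 * (X10 * X8) * X9 * X10 := by group
      _ = X8 * (X9 * X8) * (X10 * X9) * X10 := by rw [c810]; group
      _ = (X8 * X8) * X9 * (X11 * X9) * (X10 * X10) := by rw [c98, c910]; group
      _ = (X9 * X9) * X11 := by rw [h8, h10, c911]; group
      _ = X11 := by rw [h9, one_mul]
  intro h
  have h4 : X11 = 1 := by
    rw [← h, show (X6 * X7) ^ 4 = ((X6 * X7) * (X6 * X7)) * ((X6 * X7) * (X6 * X7)) by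
      simp only [pow_succ, pow_zero, one_mul, mul_assoc], hu2]
    calc X11 = (X7 * X7) * X11 := by rw [h7, one_mul]
      _ = X7 * (X11 * X7) := by rw [c711]; group
      _ = X7 * ((X8 * X9 * X10) * (X7 * X7) * (X8 * X9 * X10)) * X7 := by rw [h7, mul_one, hW]; group
      _ = _ := by group
  exact one_ne_zero (xU_inj hT2 (show 11 < (T2).n by decide +kernel)
    (h4.trans (xU_zero hT2 (show 11 < (T2).n by decide +kernel)).symm))

variable [Fintype F]

open CfsgLib.KnownB.Steinberg in
/-- An element whose order is a power of two is conjugate into the unipotent subgroup. -/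
theorem exists_conj_U {g : GL (T2).I F} (hg : g ∈ (T2).datum.group F) {k : ℕ} (hk : g ^ 2 ^ k = 1) :
    ∃ h ∈ (T2).datum.group F, h * g * h⁻¹ ∈ U F 6 := by
  have : Fact (Nat.Prime 2) := ⟨Nat.prime_two⟩
  obtain ⟨h, -, hh⟩ := exists_conj_pos hT2 hC2 2 (Finset.range (T2).rank) (g := ⟨g, hg⟩)
    (by rw [parabolicIn_range hT2 hC2]; exact Subgroup.mem_top _) (by
      obtain ⟨j, -, hj⟩ := (Nat.dvd_prime_pow Nat.prime_two).1
        (orderOf_dvd_of_pow_eq_one (x := (⟨g, hg⟩ : ↥((T2).datum.group F))) (n := 2 ^ k) (Subtype.ext hk))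
      exact ⟨j, hj⟩)
  refine ⟨h, h.2, ?_⟩
  rw [posUnipotent_rootGen hT2, half_eq] at hh
  exact hh

theorem pow_eight_of_two {g : GL (T2).I F} (hg : g ∈ (T2).datum.group F) {k : ℕ} (hk : g ^ 2 ^ k = 1) :
    g ^ 8 = 1 := by
  obtain ⟨h, -, hh⟩ := exists_conj_U hg hk
  have := pow_eight hh
  rw [_root_.conj_pow, conj_eq_one_iff] at this
  exact this

/-- An element of order eight commutes with no element of order three. -/
theorem pow_four_of_commute {g c : GL (T2).I F} (hg : g ∈ (T2).datum.group F) {k : ℕ} (hk : g ^ 2 ^ k = 1)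
    (hc : c ∈ (T2).datum.group F) (hc3 : orderOf c = 3) (hgc : c * g = g * c) : g ^ 4 = 1 := by
  classical
  obtain ⟨h, hh, hu⟩ := exists_conj_U hg hk
  suffices key : (h * g * h⁻¹) ^ 4 = 1 by
    rw [_root_.conj_pow, conj_eq_one_iff] at key
    exact key
  set u := h * g * h⁻¹
  set d := h * c * h⁻¹ with hd
  have hd3 : orderOf d = 3 := (MulEquiv.orderOf_eq (MulAut.conj h) c).trans hc3
  have hdu : d * u = u * d := by
    calc d * u = h * (c * g) * h⁻¹ := by simp only [hd, u]; group
      _ = h * (g * c) * h⁻¹ := by rw [hgc]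
      _ = u * d := by simp only [hd, u]; group
  obtain ⟨a, b, hform⟩ := exists_form hu
  by_contra h4
  have hab : a ≠ 0 ∧ b ≠ 0 :=
    ⟨fun e => h4 (pow_four hform (Or.inl e)), fun e => h4 (pow_four hform (Or.inr e))⟩
  obtain ⟨b', hb', n, hn, w, hw, hm, u2, hu2, hde⟩ :=
    exists_canonical hT2 hC2 (mul_mem (mul_mem hh hc) (inv_mem hh) : d ∈ (T2).datum.group F)
  have hu2U : u2 ∈ U F 6 := by
    have := rootGen_mono (F := F) (T := T2) (Q := fun r => (T2).half ≤ r) (fun r _ hr => hr.2.1) hu2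
    rwa [half_eq] at this
  have hw1 : w = 1 := by
    by_contra hne
    obtain ⟨i, hi⟩ : ∃ i, (w ((T2).simpF hT2 i)).val < (T2).half := by
      by_contra hall
      push Not at hall
      exact hne (eq_one_of_pos hT2 hw fun i => hall i)
    obtain ⟨p, hp, q, hq, hpq⟩ := exists_factor hT2 hC2 ((T2).posSet w) ((T2).negSet w) (fun r hr hrp => by
      rcases Nat.lt_or_ge (w ⟨r, hr⟩).val (T2).half with h | h
      · exact Or.inr ⟨hr, hrp, h⟩
      · exact Or.inl ⟨hr, hrp, h⟩) (T2).half (T2).half (Nat.two_mul _).symm le_rfl _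
      (show u2 * u ∈ (T2).rootGen F (fun r => (T2).half ≤ r) by rw [half_eq]; exact mul_mem hu2U hu)
    have hu6B : u ∈ (T2).datum.borelSubgroup F := Subgroup.mem_sup_left (by
      rw [posUnipotent_rootGen hT2, half_eq]; exact hu)
    have hnp : n * p * n⁻¹ ∈ (T2).datum.borelSubgroup F := Subgroup.mem_sup_left (by
      rw [posUnipotent_rootGen hT2]
      exact conj_mem_rootGen hT2 hm (fun s ⟨_, _, h⟩ => h) hp)
    have he : b' * (n * p * n⁻¹) * n * q = u * b' * n * u2 := by
      calc b' * (n * p * n⁻¹) * n * q = b' * n * (p * q) := by group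
        _ = b' * n * u2 * u := by rw [← hpq]; group
        _ = u * (b' * n * u2) := by rw [← hde, hdu]
        _ = _ := by group
    obtain ⟨-, h2⟩ := canonical_unique hT2 hC2 (mul_mem hb' hnp) (mul_mem hu6B hb') hn hn hm hq hu2 he
    obtain ⟨-, rfl⟩ := h2 hm rfl
    have hp' : Form a b p := by
      rw [show p = q * u * q⁻¹ by rw [hpq]; group]
      exact hform.conj hu2U
    have key : ∀ x ∈ (T2).rootGen F ((T2).posSet w), ∃ c e, Form c e x ∧
        ((w ⟨6, by decide +kernel⟩).val < (T2).half → c = 0) ∧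
        ((w ⟨7, by decide +kernel⟩).val < (T2).half → e = 0) := by
      intro x hx
      induction hx using Subgroup.closure_induction with
      | mem x hx =>
        obtain ⟨r, hr, ⟨_, hrp, hrw⟩, t, rfl⟩ := hx
        rw [half_eq] at hrp
        rcases (show r = 6 ∨ r = 7 ∨ 8 ≤ r by omega) with rfl | rfl | h8
        · exact ⟨t, 0, ⟨1, one_mem _, by rw [xU_zero hT2 (by decide +kernel)]; simp⟩,
            fun h => absurd hrw (not_le.2 h), fun _ => rfl⟩
        · exact ⟨0, t, ⟨1, one_mem _, by rw [xU_zero hT2 (by decide +kernel)]; simp⟩,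
            fun _ => rfl, fun h => absurd hrw (not_le.2 h)⟩
        · exact ⟨0, 0, ⟨_, x_mem hr h8 t, by
            rw [xU_zero hT2 (by decide +kernel), xU_zero hT2 (by decide +kernel), one_mul, one_mul]⟩,
            fun _ => rfl, fun _ => rfl⟩
      | one => exact ⟨0, 0, Form.one, fun _ => rfl, fun _ => rfl⟩
      | mul x y _ _ hx hy =>
        obtain ⟨c, e, hf, h1, h1'⟩ := hx
        obtain ⟨c', e', hf', h2, h2'⟩ := hy
        exact ⟨_, _, hf.mul hf', fun h => by rw [h1 h, h2 h, add_zero], fun h => by rw [h1' h, h2' h, add_zero]⟩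
      | inv x _ hx =>
        obtain ⟨c, e, hf, h1, h1'⟩ := hx
        obtain ⟨c', e', hf'⟩ := exists_form (inv_mem hf.mem)
        have hpr := hf.mul hf'
        rw [mul_inv_cancel] at hpr
        obtain ⟨e1, e2⟩ := Form.unique hpr Form.one
        exact ⟨c', e', hf', fun h => by rw [h1 h, zero_add] at e1; exact e1,
          fun h => by rw [h1' h, zero_add] at e2; exact e2⟩
    obtain ⟨c', e', hf', hc0, he0⟩ := key p hp
    obtain ⟨rfl, rfl⟩ := Form.unique hp' hf'
    have hs : ∀ i : Fin (T2).rank, (T2).simpF hT2 i = ⟨6, by decide +kernel⟩ ∨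
        (T2).simpF hT2 i = ⟨7, by decide +kernel⟩ := by decide +kernel
    rcases hs i with h | h <;> rw [h] at hi
    · exact hab.1 (hc0 hi)
    · exact hab.2 (he0 hi)
  subst hw1
  have hu21 : u2 = 1 := by
    rw [← Subgroup.mem_bot]
    refine (rootGen_le fun r hr hneg t => ?_ : (T2).rootGen F ((T2).negSet 1) ≤ ⊥) hu2
    obtain ⟨hr', hp, hlt⟩ := hneg
    simp only [Equiv.Perm.one_apply] at hlt
    omega
  have hdB : d ∈ (T2).datum.borelSubgroup F := by
    rw [show d = b' * n * u2 from hde, hu21, mul_one]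
    exact mul_mem hb' (Subgroup.mem_sup_right (mem_diag_of_mono_one hT2 hn hm))
  obtain ⟨v, hv, t, ht, hdvt⟩ := (mem_borel_iff hT2).mp hdB
  rw [posUnipotent_rootGen hT2, half_eq] at hv
  obtain ⟨f, rfl⟩ : ∃ f, torusHom T2 F f = t := by
    rw [← MonoidHom.mem_range, torusHom_range hT2]; exact ht
  obtain ⟨r, hr, hur⟩ := id hform
  have h1 : Form ((tCh T2 f 6 : F) * a) ((tCh T2 f 7 : F) * b) (torusHom T2 F f * u * (torusHom T2 F f)⁻¹) := by
    refine ⟨torusHom T2 F f * r * (torusHom T2 F f)⁻¹, ?_, ?_⟩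
    · exact (Subgroup.mem_normalizer_iff.mp (diag_le_normalizer hT2 (fun r => 8 ≤ r) ht) r).mp hr
    · rw [hur]
      calc _ = (torusHom T2 F f * (T2).xU F 6 a) * (T2).xU F 7 b * r * (torusHom T2 F f)⁻¹ := by group
        _ = (T2).xU F 6 ((tCh T2 f 6 : F) * a) * (torusHom T2 F f * (T2).xU F 7 b) * r *
            (torusHom T2 F f)⁻¹ := by rw [torus_xU hT2 f ⟨6, by decide +kernel⟩]; group
        _ = _ := by rw [torus_xU hT2 f ⟨7, by decide +kernel⟩]; group
  have h2 := h1.conj hv
  rw [show v * (torusHom T2 F f * u * (torusHom T2 F f)⁻¹) * v⁻¹ = d * u * d⁻¹ by rw [hdvt]; group,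
    hdu, mul_inv_cancel_right] at h2
  obtain ⟨e1, e2⟩ := Form.unique hform h2
  have hf6 : tCh T2 f 6 = 1 := Units.ext (mul_right_cancel₀ hab.1 (by rw [Units.val_one, one_mul]; exact e1.symm))
  have hf7 : tCh T2 f 7 = 1 := Units.ext (mul_right_cancel₀ hab.2 (by rw [Units.val_one, one_mul]; exact e2.symm))
  have ht1 : torusHom T2 F f = 1 := by
    rw [show (1 : GL (T2).I F) = torusHom T2 F 1 from (map_one _).symm]
    refine torus_congr hT2 fun s => ?_
    rw [tCh_linear hT2, show tCh T2 (1 : Fin (T2).rank → Fˣ) s.val = 1 by simp [tCh]]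
    refine Finset.prod_eq_one fun j _ => ?_
    have : ∀ j : Fin (T2).rank, (T2).simple j.val = 6 ∨ (T2).simple j.val = 7 := by decide +kernel
    rcases this j with h | h <;> rw [h] <;> simp [hf6, hf7]
  rw [ht1, mul_one] at hdvt
  have h8 := pow_eight hv
  rw [← hdvt] at h8
  have := orderOf_dvd_of_pow_eq_one h8
  rw [hd3] at this
  omega

end CfsgLib.Chevalley.G2Orders
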