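import Cfsg.Agent.Lib.Chevalley.G2Orders.Table
import Cfsg.Agent.Lib.Chevalley.G2Orders.Group
import Cfsg.Agent.Lib.Chevalley.G2Orders.Unipotent
import Cfsg.Agent.Lib.Chevalley.F4Graph.Torus
import Cfsg.Agent.Lib.Chevalley.F4Graph.Levi
import Cfsg.Agent.S1059

/-!
Elements of odd order of G₂ in characteristic two inside a split torus over an extension, and their
centralisers.
-/

set_option autoImplicit false
set_option maxRecDepth 20000

namespace CfsgLib.Chevalley.G2Orders

open Tbl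
open CfsgLib.Chevalley.CoxeterTorus
open CfsgLib.KnownB.FieldAut (mapGL mapGL_inj map_torus map_group map_nw)
open scoped MatrixGroups Pointwise

local notation "T2" => Data.G2.tbl
local notation "hT2" => Data.G2.valid
local notation "hC2" => Data.G2.chkComm

/-- The word of an element of order three of the Weyl group. -/
def l3 : List (Fin (T2).rank) :=
  [⟨0, by decide⟩, ⟨1, by decide⟩, ⟨0, by decide⟩, ⟨1, by decide⟩]

theorem l3_cube : ∀ s : Fin (T2).n, (T2).pw hT2 (l3 ++ (l3 ++ l3)) s = s := by decide +kernel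

theorem l3_ne : ∃ s : Fin (T2).n, (T2).pw hT2 l3 s ≠ s := by decide +kernel

theorem l3_rel : ∀ s : Fin (T2).n, ∀ j : Fin (T2).rank,
    (T2).co s.val j.val + (T2).co ((T2).pw hT2 l3 s).val j.val +
      (T2).co ((T2).pw hT2 l3 ((T2).pw hT2 l3 s)).val j.val = 0 := by
  decide +kernel

theorem refl_simple : ∀ i : Fin (T2).rank, ∀ s : Fin (T2).n, ∀ j : Fin (T2).rank,
    (T2).co ((T2).refl i.val s.val) j.val = reflCo ((T2).simple i.val) s.val j.val := by
  decide +kernel

theorem simple_pair : ∀ i : Fin (T2).rank, ∃ s : Fin (T2).n, (T2).pair ((T2).simple i.val) s.val = 1 := by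
  decide +kernel

/-- The two roots of a fundamental one. -/
abbrev Pr (i : Fin (T2).rank) (r : ℕ) : Prop := r = (T2).simple i.val ∨ r = (T2).neg ((T2).simple i.val)

section Field

variable {K : Type*} [Field K] [Fintype K]

theorem torus_mem (f : Fin (T2).rank → Kˣ) : torusHom T2 K f ∈ (T2).datum.diagonalSubgroup K := by
  rw [← torusHom_range hT2]; exact ⟨f, rfl⟩

theorem tCh_one (s : ℕ) : tCh T2 (1 : Fin (T2).rank → Kˣ) s = 1 := by simp [tCh]

theorem pow_of_ch {f : Fin (T2).rank → Kˣ} {k : ℕ} (h : ∀ s : Fin (T2).n, tCh T2 f s.val ^ k = 1) :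
    f ^ k = 1 :=
  torus_inj (torus_congr hT2 fun s => by rw [tCh_pow, h, tCh_one])

theorem ch_of_pow {f : Fin (T2).rank → Kˣ} {k : ℕ} (h : f ^ k = 1) (s : ℕ) : tCh T2 f s ^ k = 1 := by
  rw [← tCh_pow, h, tCh_one]

theorem card_diag : Nat.card ↥((T2).datum.diagonalSubgroup K) = (Fintype.card K - 1) ^ 2 := by
  rw [← torusHom_range hT2, ← Nat.card_congr (MonoidHom.ofInjective (torus_inj (K := K))).toEquiv,
    Nat.card_fun, Nat.card_units, Nat.card_eq_fintype_card (α := K), Nat.card_fin]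
  rfl

theorem diag_comm {a b : GL (T2).I K} (ha : a ∈ (T2).datum.diagonalSubgroup K)
    (hb : b ∈ (T2).datum.diagonalSubgroup K) : a * b = b * a := by
  rw [← torusHom_range hT2] at ha hb
  obtain ⟨f, rfl⟩ := ha
  obtain ⟨g, rfl⟩ := hb
  rw [← map_mul, ← map_mul, mul_comm]

omit [Fintype K] in
theorem inv_eq_self {x : Kˣ} {m : ℕ} (hm : Odd m) (hxm : x ^ m = 1) (h : x⁻¹ = x) : x = 1 := by
  have h2 : x ^ 2 = 1 := by rw [pow_two]; nth_rw 1 [← h]; rw [inv_mul_cancel]
  have h4 := pow_gcd_eq_one.2 ⟨h2, hxm⟩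
  rwa [(Nat.coprime_two_left.2 hm).gcd_eq_one, pow_one] at h4

section Odd

variable {f : Fin (T2).rank → Kˣ} {m : ℕ} (hm : Odd m) (hf : f ^ m = 1) (hf3 : f ^ 3 ≠ 1)
include hm hf hf3

/-- The roots on which an element is trivial are one pair at most. -/
theorem zero_pair {b g : Fin (T2).n} (hb : tCh T2 f b.val = 1) (hg : tCh T2 f g.val = 1) :
    g = b ∨ g = (T2).negF b := by
  by_contra h
  push Not at h
  obtain ⟨-, h2⟩ := det2_facts b g (fun e => h.1 (Fin.ext e)) (fun e => h.2 (Fin.ext e))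
  have h1 := pow_det (f := f) (k := 1) (b := b) (g := g) (by rw [pow_one, hb]) (by rw [pow_one, hg])
  rw [one_mul] at h1
  obtain ⟨c, hc⟩ : (det2 b.val g.val).natAbs ∣ 6 := by
    have := Int.natAbs_dvd_natAbs.2 h2
    simpa using this
  have h6 : f ^ 6 = 1 := by rw [hc, pow_mul, h1, one_pow]
  have h3 := pow_gcd_eq_one.2 ⟨h6, hf⟩
  refine hf3 ?_
  obtain ⟨d, hd⟩ : Nat.gcd 6 m ∣ 3 := by
    refine Nat.Coprime.dvd_of_dvd_mul_right ?_ (show Nat.gcd 6 m ∣ 3 * 2 from Nat.gcd_dvd_left 6 m)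
    exact (Nat.coprime_two_right.2 hm).coprime_dvd_left (Nat.gcd_dvd_right 6 m)
  rw [hd, pow_mul, h3, one_pow]

/-- The stabiliser is trivial or one reflection. -/
theorem stab_cases {w : Equiv.Perm (Fin (T2).n)} (hw : w ∈ (T2).WP hT2)
    (h : ∀ s : Fin (T2).n, tCh T2 f (w s).val = tCh T2 f s.val) :
    w = 1 ∨ ∃ b : Fin (T2).n, tCh T2 f b.val = 1 ∧
      ∀ s : Fin (T2).n, ∀ j : Fin (T2).rank, (T2).co (w s).val j.val = reflCo b.val s.val j.val := by
  rcases cls hw with h1 | ⟨b, hb, h1⟩ | h1 | h1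
  · exact Or.inl h1
  · refine Or.inr ⟨b, ?_, h1⟩
    have := h b
    rw [hb, tCh_neg] at this
    exact inv_eq_self hm (ch_of_pow hf b) this
  · refine absurd ?_ hf3
    rw [show f = 1 from torus_inj (torus_congr hT2 fun s => ?_), one_pow]
    have h2 := (h (w (w s))).trans ((h (w s)).trans (h s))
    rw [h1, tCh_neg] at h2
    rw [tCh_one]
    exact inv_eq_self hm (ch_of_pow hf s) h2
  · refine absurd (pow_of_ch fun s => ?_) hf3
    have h2 := tCh_of_co (f := f) (u := w (w s)) (s := s) (r := w s) (x := -1) (y := -1)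
      fun j => by have := h1 s j; linarith
    rw [h, h, zpow_neg_one, eq_comm, ← mul_inv_rev, inv_eq_iff_mul_eq_one] at h2
    rw [pow_succ, pow_two]
    exact h2

end Odd

/-- The unipotent factor commuting with a torus element is supported in its kernel. -/
theorem mem_of_support {f : Fin (T2).rank → Kˣ} {P : ℕ → Prop}
    (hP : ∀ s : Fin (T2).n, (T2).half ≤ s.val → tCh T2 f s.val = 1 → P s.val) {u : GL (T2).I K}
    (hu : u ∈ (T2).rootGen K (fun r => (T2).half ≤ r))
    (hc : torusHom T2 K f * u = u * torusHom T2 K f) : u ∈ (T2).rootGen K P := by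
  have h2n : (T2).half + (T2).half = (T2).n := (Nat.two_mul _).symm
  obtain ⟨a, rfl⟩ := exists_uProd hT2 hC2 (T2).half (T2).half h2n le_rfl u hu
  have e1 : MulAut.conj (torusHom T2 K f) ((T2).uProd a (T2).half (T2).half) =
      (T2).uProd (fun r => (tCh T2 f r : K) * a r) (T2).half (T2).half := by
    simp only [uProd, map_list_prod, List.map_map]
    refine congrArg List.prod (List.map_congr_left fun r hr => ?_)
    simp only [List.mem_range'_1] at hr
    show torusHom T2 K f * (T2).xU K r (a r) * (torusHom T2 K f)⁻¹ = _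
    rw [torus_xU hT2 f ⟨r, by omega⟩, mul_inv_cancel_right]
  have e2 : MulAut.conj (torusHom T2 K f) ((T2).uProd a (T2).half (T2).half) =
      (T2).uProd a (T2).half (T2).half := by
    rw [MulAut.conj_apply, hc, mul_inv_cancel_right]
  have h0 := uProd_inj hT2 hC2 (T2).half (T2).half h2n le_rfl _ _ (e1.symm.trans e2)
  simp only [uProd]
  refine list_prod_mem fun x hx => ?_
  obtain ⟨r, hr, rfl⟩ := List.mem_map.1 hx
  simp only [List.mem_range'_1] at hr
  have hrn : r < (T2).n := by omega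
  by_cases ha : a r = 0
  · rw [ha, xU_zero hT2 hrn]
    exact one_mem _
  · exact xU_mem_rootGen (P := P) hrn (hP ⟨r, hrn⟩ hr.1
      (Units.ext (mul_right_cancel₀ ha (by rw [Units.val_one, one_mul]; exact h0 r hr.1 hrn)))) _

/-- The kernel is empty or one fundamental pair. -/
def Normal (f : Fin (T2).rank → Kˣ) : Prop :=
  (∀ s : Fin (T2).n, tCh T2 f s.val ≠ 1) ∨ ∃ i : Fin (T2).rank, tCh T2 f ((T2).simple i.val) = 1

/-- A Weyl element brings the kernel to a fundamental pair. -/
theorem exists_normal (f : Fin (T2).rank → Kˣ) :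
    ∃ g ∈ (T2).datum.group K, ∃ f', torusHom T2 K f' = g * torusHom T2 K f * g⁻¹ ∧ Normal f' := by
  by_cases h : ∀ s : Fin (T2).n, tCh T2 f s.val ≠ 1
  · exact ⟨1, one_mem _, f, by simp, Or.inl h⟩
  push Not at h
  obtain ⟨b, hb⟩ := h
  obtain ⟨v, hv, i, hi⟩ := exists_simple_image hT2 b
  obtain ⟨l, hl⟩ := exists_pw hT2 (inv_mem hv)
  set n := (T2).nw K l
  have hn : n ∈ (T2).datum.monomialSubgroup K := nw_mem hT2 l
  obtain ⟨f', hf'⟩ : ∃ f', torusHom T2 K f' = n * torusHom T2 K f * n⁻¹ := by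
    rw [← MonoidHom.mem_range, torusHom_range hT2]
    exact conj_diag hT2 hn (torus_mem f)
  refine ⟨n, monomial_le_group hT2 hn, f', hf', Or.inr ⟨i, ?_⟩⟩
  have h1 := (mono_rel hT2 hn (mono_nw hT2 l) f f').1 (by rw [hf', inv_mul_cancel_right]) b
  rw [hl, ← hi, ← Equiv.Perm.mul_apply, inv_mul_cancel, Equiv.Perm.one_apply, hi, hb] at h1
  exact h1

/-- The centraliser of an element of odd order other than three. -/
theorem centralizer_cases {f : Fin (T2).rank → Kˣ} {m : ℕ} (hm : Odd m) (hf : f ^ m = 1)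
    (hf3 : f ^ 3 ≠ 1) (hN : Normal f) {c : GL (T2).I K} (hc : c ∈ (T2).datum.group K)
    (h : torusHom T2 K f * c = c * torusHom T2 K f) :
    c ∈ (T2).datum.diagonalSubgroup K ∨ ∃ i : Fin (T2).rank, tCh T2 f ((T2).simple i.val) = 1 ∧
      c ∈ (T2).rootGen K (Pr i) ⊔ (T2).datum.diagonalSubgroup K := by
  obtain ⟨u1, hu1, n, hn, w, hw, u, hu, hmn, rfl, hc1, hc2, hrel⟩ := decompose hT2 hC2 hc h
  rcases hN with hreg | ⟨i, hi⟩
  · refine Or.inl ?_
    rw [unip_trivial hT2 hC2 hreg hu1 hc1, unip_trivial hT2 hC2 hreg hu hc2, one_mul, mul_one]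
    rcases stab_cases hm hf hf3 hw hrel with rfl | ⟨b, hb, -⟩
    · exact mem_diag_of_mono_one hT2 hn hmn
    · exact absurd hb (hreg b)
  refine Or.inr ⟨i, hi, ?_⟩
  have hP : ∀ s : Fin (T2).n, (T2).half ≤ s.val → tCh T2 f s.val = 1 → Pr i s.val := fun s _ hs =>
    (zero_pair hm hf hf3 (b := (T2).simpF hT2 i) hi hs).imp (congrArg Fin.val) (congrArg Fin.val)
  refine mul_mem (mul_mem (Subgroup.mem_sup_left (mem_of_support hP hu1 hc1)) ?_)
    (Subgroup.mem_sup_left (mem_of_support hP hu hc2))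
  rcases stab_cases hm hf hf3 hw hrel with rfl | ⟨b, hb, hb'⟩
  · exact Subgroup.mem_sup_right (mem_diag_of_mono_one hT2 hn hmn)
  have hwi : w = (T2).refP hT2 i :=
    (refl_unique (zero_pair hm hf hf3 hb (g := (T2).simpF hT2 i) hi) hb' fun s j => by
      rw [refP_apply]; exact refl_simple i s j)
  have hni : (T2).nU K ((T2).simple i.val) 1 ∈ (T2).rootGen K (Pr i) := by
    have hx : ∀ t, (T2).xU K ((T2).simple i.val) t ∈ (T2).rootGen K (Pr i) := fun t =>
      xU_mem_rootGen (P := Pr i) (simple_lt hT2 i.2) (Or.inl rfl) t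
    exact mul_mem (mul_mem (hx _)
      (xU_mem_rootGen (P := Pr i) (neg_lt' (simple_lt hT2 i.2)) (Or.inr rfl) _)) (hx _)
  rw [show n = n * ((T2).nU K ((T2).simple i.val) 1)⁻¹ * (T2).nU K ((T2).simple i.val) 1 by group]
  refine mul_mem (Subgroup.mem_sup_right (mem_diag_of_mono_one hT2
    (mul_mem hn (inv_mem (nU_simple_mem_N hT2 i))) ?_)) (Subgroup.mem_sup_left hni)
  have := hmn.mul (mono_nU_simple (F := K) hT2 i).inv
  rwa [hwi, mul_inv_cancel] at this

/-! The subgroup of a fundamental pair and the torus. -/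

theorem diag_le_norm (i : Fin (T2).rank) : (T2).datum.diagonalSubgroup K ≤
    Subgroup.normalizer ((T2).rootGen K (Pr i) : Set (GL (T2).I K)) :=
  diag_le_normalizer hT2 _

omit [Fintype K] in
theorem rootGen_le_range (i : Fin (T2).rank) :
    (T2).rootGen K (Pr i) ≤ (sl2Data (F := K) hT2 (simple_lt hT2 i.2)).hom.range := by
  refine rootGen_le fun r _ h t => ?_
  rcases h with rfl | rfl
  · exact ⟨⟨!![1, t; 0, 1], by simp [Matrix.det_fin_two]⟩, SL2.Data.hom_upper _ _ t rfl⟩
  · exact ⟨⟨!![1, 0; t, 1], by simp [Matrix.det_fin_two]⟩, SL2.Data.hom_lower _ _ t rfl⟩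

theorem sl2_inj (i : Fin (T2).rank) :
    Function.Injective (sl2Data (F := K) hT2 (simple_lt hT2 i.2)).hom := by
  obtain ⟨s, hs⟩ := simple_pair i
  exact F4Graph.sl2_injective hT2 (simple_lt hT2 i.2) (isPos_iff.mp (simple_pos hT2 i.2)) s.2 hs

theorem card_levi (i : Fin (T2).rank) :
    Nat.card ↥((T2).rootGen K (Pr i) ⊔ (T2).datum.diagonalSubgroup K) ∣
      Fintype.card K * (Fintype.card K + 1) * Nat.card ↥((T2).datum.diagonalSubgroup K) := by
  classical
  set R := (T2).rootGen K (Pr i)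
  set D := (T2).datum.diagonalSubgroup K
  set S := sl2Data (F := K) hT2 (simple_lt hT2 i.2) with hS
  have hxR : ∀ t, (T2).xU K ((T2).simple i.val) t ∈ R := fun t =>
    xU_mem_rootGen (P := Pr i) (simple_lt hT2 i.2) (Or.inl rfl) t
  have hyR : ∀ t, (T2).xU K ((T2).neg ((T2).simple i.val)) t ∈ R := fun t =>
    xU_mem_rootGen (P := Pr i) (neg_lt' (simple_lt hT2 i.2)) (Or.inr rfl) t
  let φ : Kˣ →* GL (T2).I K :=
    { toFun := S.h
      map_one' := S.h_one
      map_mul' := fun a b => (S.h_mul a b).symm }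
  have hφ : φ.range ≤ R ⊓ D := by
    rintro _ ⟨c, rfl⟩
    refine Subgroup.mem_inf.2 ⟨?_, ?_⟩
    · show (T2).dU ((T2).hCh ((T2).simple i.val) c) ∈ R
      rw [← hU_eq hT2 (simple_lt hT2 i.2) c]
      exact mul_mem (mul_mem (mul_mem (hxR _) (hyR _)) (hxR _))
        (mul_mem (mul_mem (hxR _) (hyR _)) (hxR _))
    · show (T2).dU ((T2).hCh ((T2).simple i.val) c) ∈ (T2).datum.diagonalSubgroup K
      rw [diagonalSubgroup_eq hT2]
      exact Subgroup.subset_closure ⟨_, simple_lt hT2 i.2, c, rfl⟩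
  have hφi : Function.Injective φ := by
    intro a b hab
    have hab' : S.h a = S.h b := hab
    have key : ∀ c, S.hom (SL2.dh c) = S.h c := fun c => by
      show S.map _ = _
      have := S.map_dh_mul c 1
      rwa [mul_one, S.map_one, mul_one] at this
    rw [← key, ← key] at hab'
    have := congrArg (fun g : SL(2, K) => g.1 0 0) (sl2_inj i hab')
    simp [SL2.dh] at this
    exact Units.ext this
  have h1 : Fintype.card K - 1 ∣ Nat.card ↥(R ⊓ D) := by
    have := Subgroup.card_dvd_of_le hφ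
    rwa [← Nat.card_congr (MonoidHom.ofInjective hφi).toEquiv, Nat.card_units,
      Nat.card_eq_fintype_card] at this
  have h2 : Nat.card ↥R ∣ Fintype.card K * ((Fintype.card K - 1) * (Fintype.card K + 1)) := by
    rw [← Classical.card_sl2' (F := K), Nat.card_congr (MonoidHom.ofInjective (sl2_inj (K := K) i)).toEquiv]
    exact Subgroup.card_dvd_of_le (rootGen_le_range i)
  have h3 := ((mul_dvd_mul_left _ h1).trans (card_sup_inf_dvd R D (diag_le_norm i))).trans
    (mul_dvd_mul_right h2 _)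
  refine Nat.dvd_of_mul_dvd_mul_right (show 0 < Fintype.card K - 1 by
    have := Fintype.one_lt_card (α := K); omega) (h3.trans (dvd_of_eq ?_))
  ring

variable [CharP K 2]

theorem even_card : Even (Fintype.card K) := by
  obtain ⟨d, -, hd⟩ := FiniteField.card K 2
  rw [hd]
  exact Nat.even_pow.2 ⟨even_two, d.2.ne'⟩

theorem diag_odd : ¬ 2 ∣ Nat.card ↥((T2).datum.diagonalSubgroup K) := by
  rw [card_diag]
  intro h
  have h2 := Nat.prime_two.dvd_of_dvd_pow h
  obtain ⟨d, hd⟩ := even_card (K := K)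
  have := Fintype.one_lt_card (α := K)
  omega

/-- A two-element of the subgroup of a pair squares to one. -/
theorem levi_sq (i : Fin (T2).rank) {x : GL (T2).I K}
    (hx : x ∈ (T2).rootGen K (Pr i) ⊔ (T2).datum.diagonalSubgroup K) {k : ℕ} (hk : x ^ 2 ^ k = 1) :
    x ^ 2 = 1 := by
  classical
  obtain ⟨g, rfl⟩ := rootGen_le_range i (pow_index_mem _ _ (diag_le_norm i) diag_odd hx hk)
  rw [← map_pow] at hk
  rw [← map_pow, sl2_sq_of_two g (sl2_inj i (hk.trans (map_one _).symm)), map_one]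

/-! Three-elements. -/

theorem nw_cube : (T2).nw K l3 * ((T2).nw K l3 * (T2).nw K l3) = 1 := by
  have h0 : (T2).nw (ZMod 2) (l3 ++ (l3 ++ l3)) = 1 := by
    have h := nw_mem_diag (F := ZMod 2) hT2 _ (l3 ++ (l3 ++ l3)) rfl (Equiv.ext fun s => l3_cube s)
    rw [← torusHom_range hT2] at h
    obtain ⟨f, hf⟩ := h
    rw [← hf, Subsingleton.elim f 1, map_one]
  have h1 := congrArg (mapGL T2 (ZMod.castHom dvd_rfl K)) h0
  rw [map_nw _ hT2, map_one] at h1
  rw [← h1]
  simp only [nw, List.map_append, List.prod_append]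

omit [CharP K 2] in
/-- Outside the torus the elements over a permutation of order three have order three. -/
theorem twist_cube {n : GL (T2).I K} (hn : n ∈ (T2).datum.monomialSubgroup K)
    {w : Equiv.Perm (Fin (T2).n)} (hmn : (T2).Mono n w) (hn3 : n * (n * n) = 1)
    (hw : ∀ s : Fin (T2).n, ∀ j : Fin (T2).rank,
      (T2).co s.val j.val + (T2).co (w s).val j.val + (T2).co (w (w s)).val j.val = 0)
    {a : GL (T2).I K} (ha : a ∈ (T2).datum.diagonalSubgroup K) : (a * n) ^ 3 = 1 := by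
  rw [← torusHom_range hT2] at ha
  obtain ⟨f, rfl⟩ := ha
  obtain ⟨f1, hf1⟩ : ∃ f1, torusHom T2 K f1 = n * torusHom T2 K f * n⁻¹ := by
    rw [← MonoidHom.mem_range, torusHom_range hT2]; exact conj_diag hT2 hn (torus_mem f)
  obtain ⟨f2, hf2⟩ : ∃ f2, torusHom T2 K f2 = n * torusHom T2 K f1 * n⁻¹ := by
    rw [← MonoidHom.mem_range, torusHom_range hT2]; exact conj_diag hT2 hn (torus_mem f1)
  have r1 := (mono_rel hT2 hn hmn f f1).1 (by rw [hf1, inv_mul_cancel_right])
  have r2 := (mono_rel hT2 hn hmn f1 f2).1 (by rw [hf2, inv_mul_cancel_right])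
  have hN : torusHom T2 K f * (torusHom T2 K f1 * torusHom T2 K f2) = 1 := by
    rw [← map_mul, ← map_mul, show (1 : GL (T2).I K) = torusHom T2 K 1 from (map_one _).symm]
    refine torus_congr hT2 fun t => ?_
    obtain ⟨s, rfl⟩ : ∃ s, w (w s) = t := ⟨w⁻¹ (w⁻¹ t), by simp⟩
    rw [tCh_one, show tCh T2 (f * (f1 * f2)) (w (w s)).val = tCh T2 f (w (w s)).val *
      (tCh T2 f1 (w (w s)).val * tCh T2 f2 (w (w s)).val) by
        simp [tCh, mul_zpow, Finset.prod_mul_distrib], r1, r2, r1,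
      tCh_of_co (f := f) (u := w (w s)) (s := s) (r := w s) (x := -1) (y := -1)
        fun j => by have := hw s j; linarith]
    simp [mul_assoc, mul_comm, mul_left_comm]
  calc (torusHom T2 K f * n) ^ 3
      = torusHom T2 K f * (n * torusHom T2 K f * n⁻¹) *
          (n * (n * torusHom T2 K f * n⁻¹) * n⁻¹) * (n * (n * n)) := by
        rw [pow_succ, pow_two]; group
    _ = 1 := by rw [← hf1, ← hf2, hn3, mul_one, mul_assoc]; exact hN

/-- An element of order `3 ^ j` for `2 ≤ j` is conjugate into the torus. -/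
theorem three_conj (hK : Fintype.card K % 9 = 1) {y : GL (T2).I K} (hy : y ∈ (T2).datum.group K)
    {j : ℕ} (hj : 2 ≤ j) (hyo : orderOf y = 3 ^ j) :
    ∃ x ∈ (T2).datum.group K, x * y * x⁻¹ ∈ (T2).datum.diagonalSubgroup K := by
  classical
  have : Fact (Nat.Prime 3) := ⟨Nat.prime_three⟩
  set D := (T2).datum.diagonalSubgroup K
  set n := (T2).nw K l3 with hn
  set w := (T2).pw hT2 l3 with hw
  have hnN : n ∈ (T2).datum.monomialSubgroup K := nw_mem hT2 l3
  have hmn : (T2).Mono n w := mono_nw hT2 l3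
  set A := D ⊔ Subgroup.zpowers n
  have hnorm : Subgroup.zpowers n ≤ Subgroup.normalizer (D : Set (GL (T2).I K)) := by
    rw [Subgroup.zpowers_le]; exact monomial_le_normalizer hT2 hnN
  have hn3 : n ^ 3 = 1 := by rw [pow_succ, pow_two, mul_assoc]; exact nw_cube
  have hnD : n ∉ D := fun h => by
    obtain ⟨s, hs⟩ := l3_ne
    exact hs (by rw [show (T2).pw hT2 l3 = w from rfl, hmn.unique (mono_diag hT2 h)]; rfl)
  have hAcard : Nat.card ↥A = 3 * Nat.card ↥D := by
    have h1 : Nat.card ↥A ∣ 3 * Nat.card ↥D := by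
      refine (dvd_mul_right _ _).trans ((card_sup_inf_dvd D (Subgroup.zpowers n) hnorm).trans ?_)
      rw [Nat.card_zpowers, mul_comm]
      exact mul_dvd_mul_right (orderOf_dvd_of_pow_eq_one hn3) _
    obtain ⟨c, hc⟩ := Subgroup.card_dvd_of_le (le_sup_left : D ≤ A)
    rw [hc, mul_comm _ c] at h1
    rcases (Nat.dvd_prime Nat.prime_three).1 (Nat.dvd_of_mul_dvd_mul_right Nat.card_pos h1) with h | h
    · exfalso
      refine hnD ?_
      have hDA : D = A :=
        Subgroup.eq_of_le_of_card_ge le_sup_left (by rw [hc, h, mul_one])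
      rw [hDA]
      exact Subgroup.mem_sup_right (Subgroup.mem_zpowers n)
    · rw [hc, h, mul_comm]
  have hAG : A ≤ (T2).datum.group K :=
    sup_le (diag_le_group hT2) (by rw [Subgroup.zpowers_le]; exact monomial_le_group hT2 hnN)
  have h3Q : Fintype.card K ≠ 0 := Fintype.card_ne_zero
  set Sum := ∑ x : ↥((T2).WP hT2), Fintype.card K ^ (T2).invN (x : Equiv.Perm (Fin (T2).n))
  have hS9 : (Sum : ZMod 9) = 3 := by
    have hQ : (Fintype.card K : ZMod 9) = 1 := by
      rw [← Nat.div_add_mod (Fintype.card K) 9, hK]; push_cast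
      rw [show (9 : ZMod 9) = 0 from rfl]; ring
    simp only [Sum, Nat.cast_sum, Nat.cast_pow, hQ, one_pow, Finset.sum_const, Finset.card_univ,
      nsmul_eq_mul, mul_one]
    rw [← Nat.card_eq_fintype_card, G2_card_WP]
    rfl
  have hS0 : Sum ≠ 0 := fun h => absurd hS9 (by rw [h]; decide)
  have hS1 : Sum.factorization 3 = 1 := by
    obtain ⟨c, hc⟩ : ∃ c, Sum = 9 * c + 3 := by
      refine ⟨Sum / 9, ?_⟩
      have := congrArg ZMod.val hS9
      rw [ZMod.val_natCast, show (3 : ZMod 9).val = 3 from rfl] at this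
      omega
    rw [hc, show 9 * c + 3 = 3 * (3 * c + 1) by ring,
      Nat.factorization_mul (by norm_num) (by omega), Finsupp.add_apply,
      Nat.Prime.factorization_self Nat.prime_three,
      Nat.factorization_eq_zero_of_not_dvd (show ¬ 3 ∣ 3 * c + 1 by omega)]
  obtain ⟨g, hg⟩ := Twist.ToriGen.conj_into (p := 3) (G := ↥((T2).datum.group K))
    (A.subgroupOf ((T2).datum.group K))
    (by
      rw [Nat.card_congr (Subgroup.subgroupOfEquivOfLe hAG).toEquiv, hAcard, card_group hT2 hC2,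
        Nat.factorization_mul (by norm_num) Nat.card_pos.ne',
        Nat.factorization_mul (Nat.mul_ne_zero (pow_ne_zero _ h3Q) Nat.card_pos.ne') hS0,
        Nat.factorization_mul (pow_ne_zero _ h3Q) Nat.card_pos.ne', Finsupp.add_apply,
        Finsupp.add_apply, Finsupp.add_apply, Nat.Prime.factorization_self Nat.prime_three, hS1,
        Nat.factorization_eq_zero_of_not_dvd (show ¬ 3 ∣ Fintype.card K ^ (T2).half from fun h => by
          have := Nat.prime_three.dvd_of_dvd_pow h; omega)]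
      simp only [D]; omega)
    (y := ⟨y, hy⟩) (k := j) (by rw [← Subgroup.orderOf_coe]; exact hyo)
  rw [Subgroup.mem_subgroupOf] at hg
  refine ⟨g, g.2, ?_⟩
  set b := (g : GL (T2).I K) * y * (g : GL (T2).I K)⁻¹
  have hb : b ∈ A := hg
  have hbo : orderOf b = 3 ^ j := (MulEquiv.orderOf_eq (MulAut.conj _) y).trans hyo
  obtain ⟨a, ha, z, hz, hab⟩ := Set.mem_mul.1
    (show b ∈ (D : Set (GL (T2).I K)) * (Subgroup.zpowers n : Set (GL (T2).I K)) by
      rw [← Subgroup.coe_mul_of_right_le_normalizer_left D (Subgroup.zpowers n) hnorm]; exact hb)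
  obtain ⟨k, rfl⟩ := Subgroup.mem_zpowers_iff.1 hz
  have hk : n ^ k = n ^ (k % 3) := by
    conv_lhs => rw [← Int.emod_add_mul_ediv k 3]
    rw [zpow_add, zpow_mul, show (3 : ℤ) = ((3 : ℕ) : ℤ) from rfl, zpow_natCast, hn3, one_zpow, mul_one]
  have hsmall : ∀ {c : GL (T2).I K}, c ^ 3 = 1 → b = c → False := fun {c} hc hbc => by
    have h1 := orderOf_dvd_of_pow_eq_one hc
    rw [← hbc, hbo] at h1
    have := (Nat.pow_dvd_pow_iff_le_right (show 1 < 3 by norm_num)).1 (h1.trans (pow_one 3).symm.dvd)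
    omega
  rcases (show k % 3 = 0 ∨ k % 3 = 1 ∨ k % 3 = 2 by omega) with e | e | e <;> rw [e] at hk
  · rw [← hab, hk, zpow_zero, mul_one]; exact ha
  · exfalso
    refine hsmall (twist_cube hnN hmn nw_cube (fun s j => l3_rel s j) ha) ?_
    rw [← hab, hk, zpow_one]
  · exfalso
    refine hsmall (twist_cube (mul_mem hnN hnN) (hmn.mul hmn) ?_ (fun s j => ?_) ha) ?_
    · calc n * n * (n * n * (n * n)) = (n * (n * n)) * (n * (n * n)) := by group
        _ = 1 := by rw [nw_cube, one_mul]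
    · have h1 := l3_rel s j
      have h2 : w (w (w (w s))) = w s := by
        have := l3_cube (w s)
        rwa [pw_append, pw_append] at this
      simp only [Equiv.Perm.mul_apply, h2]
      linarith
    · rw [← hab, hk, show (2 : ℤ) = ((2 : ℕ) : ℤ) from rfl, zpow_natCast, pow_two]

/-- Elements of odd order at least five are conjugate into the torus. -/
theorem exists_torus_conj (hK : Fintype.card K % 9 = 1) {y : GL (T2).I K}
    (hy : y ∈ (T2).datum.group K) {m : ℕ} (hm : Odd m) (hm5 : 5 ≤ m) (hyo : orderOf y = m)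
    (hp : ∀ p : ℕ, p.Prime → p ∣ m → p ∣ Fintype.card K - 1) :
    ∃ x ∈ (T2).datum.group K, ∃ f, torusHom T2 K f = x * y * x⁻¹ ∧ Normal f := by
  classical
  set D := (T2).datum.diagonalSubgroup K
  have fin : ∀ x ∈ (T2).datum.group K, x * y * x⁻¹ ∈ D →
      ∃ x ∈ (T2).datum.group K, ∃ f, torusHom T2 K f = x * y * x⁻¹ ∧ Normal f := by
    intro x hx hd
    rw [show D = _ from (torusHom_range hT2).symm] at hd
    obtain ⟨f, hf⟩ := hd
    obtain ⟨g, hg, f', hf', hN⟩ := exists_normal f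
    exact ⟨g * x, mul_mem hg hx, f', by rw [hf', hf]; group, hN⟩
  have hm0 : m ≠ 0 := by omega
  by_cases h5 : ∃ p : ℕ, p.Prime ∧ 5 ≤ p ∧ p ∣ m
  · obtain ⟨p, hpp, hp5, hpm⟩ := h5
    have : Fact p.Prime := ⟨hpp⟩
    have hW : p.Coprime (Nat.card ((T2).WP hT2)) := by
      rw [G2_card_WP, show 12 = 2 ^ 2 * 3 from rfl]
      exact Nat.Coprime.mul_right (((Nat.coprime_primes hpp Nat.prime_two).2 (by omega)).pow_right _)
        ((Nat.coprime_primes hpp Nat.prime_three).2 (by omega))
    have hzo : orderOf (y ^ (m / p)) = p := by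
      rw [← hyo]
      exact orderOf_pow_orderOf_div (by omega) (hyo ▸ hpm)
    obtain ⟨g, hg⟩ := Twist.ToriGen.conj_into (p := p) (G := ↥((T2).datum.group K))
      (D.subgroupOf ((T2).datum.group K))
      (by rw [Nat.card_congr (Subgroup.subgroupOfEquivOfLe (diag_le_group hT2)).toEquiv,
        card_flag_dvd hT2 hC2 (hp p hpp hpm) hW])
      (y := ⟨y ^ (m / p), pow_mem hy _⟩) (k := 1)
      (by rw [← Subgroup.orderOf_coe, pow_one]; exact hzo)
    rw [Subgroup.mem_subgroupOf, show D = _ from (torusHom_range hT2).symm] at hg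
    obtain ⟨f0, hf0⟩ := hg
    obtain ⟨g', hg', f, hf, hN⟩ := exists_normal f0
    set x : GL (T2).I K := g' * (g : GL (T2).I K) with hxdef
    have hx : x ∈ (T2).datum.group K := mul_mem hg' g.2
    have hfx : torusHom T2 K f = x * y ^ (m / p) * x⁻¹ := by
      rw [hf, hf0, hxdef]; simp only [Subgroup.coe_mul, InvMemClass.coe_inv]; group
    have hfo : orderOf f = p := by
      rw [← orderOf_injective _ (torus_inj (K := K)), hfx]
      exact (MulEquiv.orderOf_eq (MulAut.conj x) _).trans hzo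
    have hpo : Odd p := hm.of_dvd_nat hpm
    have hfp : f ^ p = 1 := hfo ▸ pow_orderOf_eq_one f
    have hf3 : f ^ 3 ≠ 1 := fun h => by
      have h' := orderOf_dvd_of_pow_eq_one h
      rw [hfo] at h'
      have := Nat.le_of_dvd (by norm_num) h'
      omega
    set y' := x * y * x⁻¹ with hy'
    have hy'G : y' ∈ (T2).datum.group K := mul_mem (mul_mem hx hy) (inv_mem hx)
    have hcomm : torusHom T2 K f * y' = y' * torusHom T2 K f := by
      rw [hfx, hy', ← _root_.conj_pow]
      exact ((Commute.refl _).pow_left _).eq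
    rcases centralizer_cases hpo hfp hf3 hN hy'G hcomm with h | ⟨i, -, h⟩
    · exact fin x hx h
    have hy'o : orderOf y' = m := (MulEquiv.orderOf_eq (MulAut.conj x) y).trans hyo
    obtain ⟨z, hz, hzd⟩ := conj_abelian D (fun a ha b hb => diag_comm ha hb)
      ((T2).rootGen K (Pr i) ⊔ D) le_sup_right y' h (fun l hl hlm => by
        rw [hy'o] at hlm
        have hl2 : l ≠ 2 := fun e => by
          rw [e] at hlm; exact Nat.not_even_iff_odd.2 hm (even_iff_two_dvd.2 hlm)
        refine le_antisymm ((Nat.factorization_le_iff_dvd Nat.card_pos.ne' Nat.card_pos.ne').2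
          (Subgroup.card_dvd_of_le le_sup_right) l) ?_
        have hQ := Fintype.card_ne_zero (α := K)
        refine ((Nat.factorization_le_iff_dvd Nat.card_pos.ne'
          (Nat.mul_ne_zero (Nat.mul_ne_zero hQ (by omega)) Nat.card_pos.ne')).2 (card_levi i) l).trans ?_
        obtain ⟨c, hc⟩ := hp l hl hlm
        have hQ1 := Fintype.one_lt_card (α := K)
        have h2 : ¬ l ∣ Fintype.card K * (Fintype.card K + 1) := by
          intro hd
          rcases hl.dvd_mul.1 hd with h' | h'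
          · have h'' := Nat.dvd_sub h' (hp l hl hlm)
            rw [show Fintype.card K - (Fintype.card K - 1) = 1 by omega] at h''
            exact hl.ne_one (Nat.dvd_one.1 h'')
          · have h'' := Nat.dvd_sub h' (hp l hl hlm)
            rw [show Fintype.card K + 1 - (Fintype.card K - 1) = 2 by omega] at h''
            exact hl2 ((Nat.prime_dvd_prime_iff_eq hl Nat.prime_two).1 h'')
        rw [Nat.factorization_mul (Nat.mul_ne_zero hQ (by omega)) Nat.card_pos.ne', Finsupp.add_apply,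
          Nat.factorization_eq_zero_of_not_dvd h2, zero_add])
    have hMG : (T2).rootGen K (Pr i) ⊔ D ≤ (T2).datum.group K :=
      sup_le (rootGen_le fun r hr _ t => xU_mem_group hT2 hr t) (diag_le_group hT2)
    refine fin (z * x) (mul_mem (hMG hz) hx) ?_
    rw [show z * x * y * (z * x)⁻¹ = z * y' * z⁻¹ by rw [hy']; group]
    exact hzd
  · push Not at h5
    obtain ⟨j, hj⟩ : ∃ j, m = 3 ^ j := by
      refine ⟨m.primeFactorsList.length, Nat.eq_prime_pow_of_unique_prime_dvd hm0 fun {d} hd hdm => ?_⟩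
      have h1 : d < 5 := by
        by_contra h1
        exact h5 d hd (by omega) hdm
      have h2 := hd.two_le
      have h3 : d ≠ 2 := fun e => by
        rw [e] at hdm; exact Nat.not_even_iff_odd.2 hm (even_iff_two_dvd.2 hdm)
      have h4 : d ≠ 4 := fun e => by rw [e] at hd; norm_num at hd
      omega
    have hj2 : 2 ≤ j := by
      by_contra h
      have : 3 ^ j ≤ 3 ^ 1 := Nat.pow_le_pow_right (by norm_num) (by omega)
      omega
    obtain ⟨x, hx, hd⟩ := three_conj hK hy hj2 (hyo.trans hj)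
    exact fin x hx hd

end Field

section Rational

variable {F : Type*} [Field F] [Fintype F] [CharP F 2]

/-- Over the rational group: the orders of the odd parts and the two-parts commuting with them. -/
theorem order_cases {q : ℕ} (hF : Fintype.card F = q) {s u : GL (T2).I F}
    (hs : s ∈ (T2).datum.group F) (hu : u ∈ (T2).datum.group F) {m k : ℕ} (hm : Odd m) (hm5 : 5 ≤ m)
    (hso : orderOf s = m) (huk : u ^ 2 ^ k = 1) (hsu : s * u = u * s) :
    (m ∣ q - 1 ∨ m ∣ q + 1 ∨ m ∣ q ^ 2 - 1 ∨ m ∣ q ^ 2 + q + 1 ∨ m ∣ q ^ 2 - q + 1) ∧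
      u ^ 2 = 1 ∧ (u = 1 ∨ m ∣ q - 1 ∨ m ∣ q + 1) := by
  classical
  obtain ⟨K, _, _, ι, σ, hσ, hfix, hK⟩ := F4Graph.exists_ext hF
  have : CharP K 2 := charP_of_injective_ringHom ι.injective 2
  have hq1 : 1 < q := hF ▸ Fintype.one_lt_card
  obtain ⟨a, -, ha⟩ := FiniteField.card F 2
  rw [hF] at ha
  have hK9 : Fintype.card K % 9 = 1 := by
    rw [hK, ha, ← pow_mul, show (a : ℕ) * 24 = 6 * ((a : ℕ) * 4) by ring, pow_mul, Nat.pow_mod]
    norm_num
  have hp : ∀ p : ℕ, p.Prime → p ∣ m → p ∣ Fintype.card K - 1 := by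
    intro p hp hpm
    have h2 : p ≠ 2 := fun e => by
      rw [e] at hpm; exact Nat.not_even_iff_odd.2 hm (even_iff_two_dvd.2 hpm)
    have h1 : p ∣ Nat.card ↥((T2).datum.group F) :=
      hpm.trans (hso ▸ Subgroup.orderOf_coe (⟨s, hs⟩ : ↥((T2).datum.group F)) ▸ orderOf_dvd_natCard _)
    rw [Data.G2.datum_eq, Cfsg.Agent.S1059.result hF] at h1
    have hq2 : q ^ 2 - 1 ∣ q ^ 24 - 1 := Nat.pow_sub_one_dvd_pow_sub_one q (by norm_num)
    have hq6 : q ^ 6 - 1 ∣ q ^ 24 - 1 := Nat.pow_sub_one_dvd_pow_sub_one q (by norm_num)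
    rw [hK]
    rcases hp.dvd_mul.1 h1 with h | h
    · rcases hp.dvd_mul.1 h with h | h
      · exfalso
        rw [ha, ← pow_mul] at h
        exact h2 ((Nat.prime_dvd_prime_iff_eq hp Nat.prime_two).1 (hp.dvd_of_dvd_pow h))
      · exact h.trans hq2
    · exact h.trans hq6
  set s' := mapGL T2 ι s with hs'
  have hs'G : s' ∈ (T2).datum.group K := map_group ι hT2 ⟨s, hs, rfl⟩
  obtain ⟨x, hx, f, hf, hN⟩ := exists_torus_conj hK9 hs'G hm hm5
    ((orderOf_injective _ (mapGL_inj ι) s).trans hso) hp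
  have hfo : orderOf f = m := by
    rw [← orderOf_injective _ (torus_inj (K := K)), hf]
    exact (MulEquiv.orderOf_eq (MulAut.conj x) _).trans ((orderOf_injective _ (mapGL_inj ι) s).trans hso)
  have hfm : f ^ m = 1 := hfo ▸ pow_orderOf_eq_one f
  have hf3 : f ^ 3 ≠ 1 := fun h => by
    have h' := Nat.le_of_dvd (by norm_num) (orderOf_dvd_of_pow_eq_one h)
    omega
  have hdvd : ∀ {n : ℕ}, f ^ n = 1 → m ∣ n := fun h => hfo ▸ orderOf_dvd_of_pow_eq_one h
  have hσι : mapGL T2 σ s' = s' :=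
    Units.ext (Matrix.ext fun i j => (hfix _).2 ⟨(s : Matrix (T2).I (T2).I F) i j, rfl⟩)
  have hσf : mapGL T2 σ (torusHom T2 K f) = torusHom T2 K f ^ q := by
    rw [map_torus, ← map_pow]
    exact congrArg _ (funext fun i => Units.ext (by simp [hσ]))
  obtain ⟨-, -, -, -, w, hw, -, -, -, -, -, -, hrel⟩ := decompose hT2 hC2
    (mul_mem (map_group σ hT2 ⟨x, hx, rfl⟩) (inv_mem hx)) (y := mapGL T2 σ x * x⁻¹) (f := f) (g := f ^ q)
    (by rw [map_pow, ← hσf, hf, map_mul, map_mul, map_inv, hσι]; group)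
  set v := w⁻¹ with hv
  have hvW : v ∈ (T2).WP hT2 := inv_mem hw
  have hvrel : ∀ r : Fin (T2).n, tCh T2 f (v r).val = tCh T2 f r.val ^ q := by
    intro r
    have h1 := hrel (v r)
    rw [hv, ← Equiv.Perm.mul_apply, mul_inv_cancel, Equiv.Perm.one_apply, tCh_pow] at h1
    exact h1.symm
  have hcancel : ∀ (c : Kˣ) (n : ℕ), 1 ≤ n → c ^ n = c → c ^ (n - 1) = 1 := fun c n hn h => by
    refine mul_right_cancel (b := c) ?_
    rw [← pow_succ, Nat.sub_add_cancel hn, h, one_mul]
  refine ⟨?_, ?_⟩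
  · rcases twist_cls hvW with h1 | h1 | ⟨e, he, h1⟩
    · refine Or.inl (hdvd (pow_of_ch fun r => hcancel _ _ hq1.le ?_))
      have h2 := hvrel r
      rw [h1, Equiv.Perm.one_apply] at h2
      exact h2.symm
    · refine Or.inr (Or.inl (hdvd (pow_of_ch fun r => ?_)))
      have h2 := hvrel r
      rw [h1, tCh_neg] at h2
      rw [pow_succ, ← h2, inv_mul_cancel]
    · have h2 : ∀ r : Fin (T2).n, tCh T2 f r.val ^ (q ^ 2) =
          (tCh T2 f r.val ^ q) ^ e.1 * tCh T2 f r.val ^ (-e.2) := fun r => by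
        have h3 := tCh_of_co (f := f) (u := v (v r)) (s := v r) (r := r) (x := e.1) (y := -e.2)
          fun j => by rw [h1 r j]; ring
        rw [hvrel, hvrel, ← pow_mul, ← pow_two] at h3
        exact h3
      refine Or.inr (Or.inr ?_)
      have hqq : q ≤ q ^ 2 := Nat.le_self_pow (by norm_num) q
      simp only [List.mem_cons, List.not_mem_nil, or_false] at he
      rcases he with rfl | rfl | rfl
      · refine Or.inl (hdvd (pow_of_ch fun r => hcancel _ _ (by omega) ?_))
        have h3 := h2 r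
        rwa [zpow_zero, one_mul, neg_neg, zpow_one] at h3
      · refine Or.inr (Or.inr (hdvd (pow_of_ch fun r => mul_right_cancel (b := tCh T2 f r.val ^ q) ?_)))
        rw [← pow_add, show q ^ 2 - q + 1 + q = q ^ 2 + 1 by omega, pow_succ, h2 r, zpow_one,
          zpow_neg_one, inv_mul_cancel_right, one_mul]
      · refine Or.inr (Or.inl (hdvd (pow_of_ch fun r => ?_)))
        rw [pow_succ, pow_add, h2 r, zpow_neg_one, zpow_neg_one]
        group
  set u' := x * mapGL T2 ι u * x⁻¹ with hu'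
  have hu'G : u' ∈ (T2).datum.group K := mul_mem (mul_mem hx (map_group ι hT2 ⟨u, hu, rfl⟩)) (inv_mem hx)
  have hu'k : u' ^ 2 ^ k = 1 := by rw [hu', _root_.conj_pow, ← map_pow, huk, map_one]; group
  have hback : ∀ n : ℕ, u' ^ n = 1 → u ^ n = 1 := fun n h => by
    rw [hu', _root_.conj_pow, conj_eq_one_iff, ← map_pow, ← map_one (mapGL T2 ι)] at h
    exact mapGL_inj ι h
  have hcomm : torusHom T2 K f * u' = u' * torusHom T2 K f := by
    rw [hf, hu', hs']
    calc x * mapGL T2 ι s * x⁻¹ * (x * mapGL T2 ι u * x⁻¹)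
        = x * (mapGL T2 ι s * mapGL T2 ι u) * x⁻¹ := by group
      _ = x * (mapGL T2 ι u * mapGL T2 ι s) * x⁻¹ := by rw [← map_mul, hsu, map_mul]
      _ = _ := by group
  rcases centralizer_cases hm hfm hf3 hN hu'G hcomm with h | ⟨i, hi, h⟩
  · have h1 : u = 1 := by
      rw [← pow_one u]
      refine hback 1 ?_
      rw [pow_one, ← Subgroup.mem_bot]
      exact pow_index_mem ⊥ ((T2).datum.diagonalSubgroup K) (fun z _ => Subgroup.mem_normalizer_iff.2 fun _ => by simp) diag_odd
        (Subgroup.mem_sup_right h) hu'k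
    exact ⟨by rw [h1, one_pow], Or.inl h1⟩
  refine ⟨hback 2 (levi_sq i h hu'k), Or.inr ?_⟩
  set b := (T2).simpF hT2 i with hb
  have hb1 : tCh T2 f b.val = 1 := hi
  have hfix' : v b = b ∨ v b = (T2).negF b :=
    zero_pair hm hfm hf3 hb1 (by rw [hvrel, hb1, one_pow])
  obtain ⟨g, hg, e, he, c, hc⟩ := basis_of_fixed hvW b hfix'
  have h3 := tCh_of_co (f := f) (u := v g) (s := g) (r := b) (x := e) (y := c) hc
  rw [hvrel, hb1, one_zpow, mul_one] at h3
  simp only [List.mem_cons, List.not_mem_nil, or_false] at he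
  have key : ∀ n : ℕ, tCh T2 f g.val ^ n = 1 → m ∣ n := fun n h => by
    have h4 := pow_det (f := f) (k := n) (b := b) (g := g) (by rw [hb1, one_pow]) h
    rw [hg, mul_one] at h4
    exact hdvd h4
  rcases he with rfl | rfl
  · exact Or.inl (key _ (hcancel _ _ hq1.le (by rw [h3, zpow_one])))
  · exact Or.inr (key _ (by rw [pow_succ, h3, zpow_neg_one, inv_mul_cancel]))

end Rational

end CfsgLib.Chevalley.G2Orders
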